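import Groth.Agent.HomRepLib.LocalRep
import Groth.Agent.GrpSchLib.MultTypeBC
import Groth.Agent.UnibEtale.Chart
import Groth.Agent.UnibEtale.Comp

/-!
# Homomorphisms between quasi-isotrivial groups of multiplicative type

The functor of homomorphisms is representable by a twisted constant scheme; for homomorphisms to the multiplicative
group it is a twisted constant group, the group of characters.
-/

universe u

open CategoryTheory CategoryTheory.Limits MonoidalCategory CartesianMonoidalCategory MonObj GrpObj AlgebraicGeometry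
open Groth.Agent.DSPtsLib Opposite

namespace Groth.Agent.HomRepLib

set_option backward.isDefEq.respectTransparency.types false
set_option maxHeartbeats 400000

variable {S : Scheme.{u}}

/-- The base change of a diagonalisable base change is diagonalisable. -/
theorem diag_bc {U U' : Scheme.{u}} {f : U ⟶ S} (g : U' ⟶ U) {H : Over S} [GrpObj H] {M : Type} [AddCommGroup M]
    (e : Grp.mk (Red.bc f H) ≅ Grp.mk (Red.DS U M)) :
    Nonempty (Grp.mk (Red.bc (g ≫ f) H) ≅ Grp.mk (Red.DS U' M)) := by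
  obtain ⟨e₁⟩ := GrpSchLib.MultTypeBC.bc_bc g f H
  obtain ⟨e₂⟩ := GrpSchLib.MultTypeBC.bc_iso g e
  obtain ⟨e₃⟩ := GrpSchLib.MultTypeBC.bc_DS g M
  exact ⟨e₁.symm ≪≫ e₂ ≪≫ e₃⟩

/-- Descent of local representations by constant schemes along an etale covering. -/
theorem exists_representsHom_etale {G G' : Over S} [GrpObj G] [GrpObj G'] {σ : Type u} {U : σ → Scheme.{u}}
    (f : ∀ s, U s ⟶ S) [∀ s, Etale (f s)] (hf : ∀ x : S, ∃ s, x ∈ Set.range (f s)) (I : σ → Type u)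
    (υ : ∀ s, Red.bc (f s) G ⊗ TwC.const (U s) (I s) ⟶ Red.bc (f s) G')
    (hυ : ∀ s, AutFam.RepresentsHom (Red.bc (f s) G) (Red.bc (f s) G') (TwC.const (U s) (I s)) (υ s)) :
    ∃ (A : Over S) (υA : G ⊗ A ⟶ G'), AutFam.RepresentsHom G G' A υA ∧
      ∀ s, ∃ e : Red.bc (f s) A ≅ TwC.const (U s) (I s),
        toBc (f s) ((G ◁ theta (f s) e.inv) ≫ υA) = υ s := by
  let A₀ : ∀ s, Over (U s) := fun s => TwC.const (U s) (I s)
  haveI : ∀ s, Etale (A₀ s).hom := fun s => etale_const (I s)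
  haveI : ∀ s, IsSeparated (A₀ s).hom := fun s => isSeparated_const (I s)
  obtain ⟨w, hw, hwloc, huniv⟩ := exists_univ f A₀ υ hυ
  haveI : Etale (coverObj f).hom := IsZariskiLocalAtSource.sigmaDesc (P := @Etale) inferInstance
  haveI : Surjective (coverObj f).hom := ⟨fun x => by
    obtain ⟨s, y, rfl⟩ := hf x
    exact ⟨Sigma.ι U s y, by
      rw [← Scheme.Hom.comp_apply]
      exact congrArg (fun k => k y) (Sigma.ι_desc f s)⟩⟩
  haveI : LocallyOfFiniteType (localMap f A₀).left := prop_localMap A₀ @LocallyOfFiniteType inferInstance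
  haveI : IsSeparated (localMap f A₀).left := prop_localMap A₀ @IsSeparated inferInstance
  haveI : Etale (localMap f A₀).left := prop_localMap A₀ @Etale inferInstance
  haveI : LocallyQuasiFinite (localMap f A₀).left := UnibEtale.locallyQuasiFinite_of_formallyUnramified _
  obtain ⟨A, υA, hA⟩ := exists_representsHom_of_lqf (localMap f A₀) w hw huniv
  obtain ⟨a, ha, hsq⟩ := exists_cartesian (localMap f A₀) w hw huniv hA
  refine ⟨A, υA, hA, fun s => ?_⟩
  have h0 := (isPullback_localι (U := U) A₀ s).flip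
  have hpb : IsPullback (Sigma.ι (fun s => (A₀ s).left) s ≫ a.left) (A₀ s).hom A.hom (f s) := by
    have := h0.paste_horiz hsq
    rwa [show Sigma.ι U s ≫ (coverObj f).hom = f s from Sigma.ι_desc f s] at this
  let e : A₀ s ≅ Red.bc (f s) A := Over.isoMk hpb.isoPullback hpb.isoPullback_hom_snd
  refine ⟨e.symm, ?_⟩
  have h1 : theta (f s) e.hom = localι f A₀ s ≫ a := Over.OverMorphism.ext (by
    rw [theta_left]
    exact hpb.isoPullback_hom_fst)
  show toBc (f s) ((G ◁ theta (f s) e.hom) ≫ υA) = υ s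
  rw [h1, MonoidalCategory.whiskerLeft_comp, Category.assoc, ha]
  exact hwloc s

theorem toBc_mul {G G' : Over S} [GrpObj G] [GrpObj G'] {U : Scheme.{u}} (f : U ⟶ S) {Y : Over U}
    (φ ψ : G ⊗ (Over.map f).obj Y ⟶ G') : toBc f (φ * ψ) = toBc f φ * toBc f ψ := by
  refine (theta_bijective f).injective ?_
  rw [theta_mul]
  simp only [toBc, theta, Equiv.symm_apply_apply, MonObj.comp_mul]

section Char

variable (H : Over S) [GrpObj H]

theorem Gm_mul_mul_mul_comm {X : Over S} (a b c d : X ⟶ Red.Gm S) : a * b * (c * d) = a * c * (b * d) := by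
  rw [_root_.mul_assoc, ← _root_.mul_assoc b, DS_mul_comm b c, _root_.mul_assoc, ← _root_.mul_assoc a c]

theorem aux_inv_mul {G : Type*} [Group G] (h : ∀ x y : G, x * y = y * x) (a b : G) : (a * b)⁻¹ = a⁻¹ * b⁻¹ := by
  rw [_root_.mul_inv_rev, h]

theorem Gm_inv_mul {X : Over S} (a b : X ⟶ Red.Gm S) : (a * b)⁻¹ = a⁻¹ * b⁻¹ :=
  aux_inv_mul (G := X ⟶ Red.Gm S) (fun x y => DS_mul_comm (M := ℤ) x y) a b

/-- The group of families of characters. -/
noncomputable def charFam (T : Over S) : Subgroup (H ⊗ T ⟶ Red.Gm S) where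
  carrier := {φ | AutFam.IsHomFamily H (Red.Gm S) φ}
  mul_mem' {φ ψ} hφ hψ X g₁ g₂ t := by
    rw [MonObj.comp_mul, MonObj.comp_mul, MonObj.comp_mul, hφ X g₁ g₂ t, hψ X g₁ g₂ t, Gm_mul_mul_mul_comm]
  one_mem' X g₁ g₂ t := by
    rw [MonObj.comp_one, MonObj.comp_one, MonObj.comp_one, _root_.one_mul]
  inv_mem' {φ} hφ X g₁ g₂ t := by
    rw [GrpObj.comp_inv, GrpObj.comp_inv, GrpObj.comp_inv, hφ X g₁ g₂ t]
    exact Gm_inv_mul (lift g₁ t ≫ φ) (lift g₂ t ≫ φ)

/-- The functor of families of characters, as a functor to groups. -/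
noncomputable def charFunctor : (Over S)ᵒᵖ ⥤ GrpCat.{u} where
  obj T := GrpCat.of (charFam H T.unop)
  map {T T'} a := GrpCat.ofHom
    { toFun := fun φ => ⟨(H ◁ a.unop) ≫ φ.1, isHomFamily_comp φ.2 a.unop⟩
      map_one' := Subtype.ext (MonObj.comp_one _)
      map_mul' := fun φ ψ => Subtype.ext (MonObj.comp_mul _ _ _) }
  map_id T := by
    refine GrpCat.hom_ext (MonoidHom.ext fun φ => Subtype.ext ?_)
    exact (show (H ◁ 𝟙 T.unop) ≫ φ.1 = φ.1 by rw [MonoidalCategory.whiskerLeft_id, Category.id_comp])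
  map_comp a b := by
    refine GrpCat.hom_ext (MonoidHom.ext fun φ => Subtype.ext ?_)
    exact (show (H ◁ (b.unop ≫ a.unop)) ≫ φ.1 = (H ◁ b.unop) ≫ (H ◁ a.unop) ≫ φ.1 by
      rw [MonoidalCategory.whiskerLeft_comp, Category.assoc])

variable {H}

/-- A scheme representing the characters is a group, multiplying characters pointwise. -/
theorem exists_grpObj_of_representsHom {A : Over S} {υ : H ⊗ A ⟶ Red.Gm S}
    (hA : AutFam.RepresentsHom H (Red.Gm S) A υ) :
    ∃ _ : GrpObj A, ∀ (X : Over S) (a b : X ⟶ A), (H ◁ (a * b)) ≫ υ = ((H ◁ a) ≫ υ) * ((H ◁ b) ≫ υ) := by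
  let r : (charFunctor H ⋙ forget _).RepresentableBy A :=
    { homEquiv := fun {X} => Equiv.ofBijective
        (fun a : X ⟶ A => (⟨(H ◁ a) ≫ υ, isHomFamily_comp hA.1 a⟩ : charFam H X))
        ⟨fun a b h => (hA.2 X _ (isHomFamily_comp hA.1 b)).unique (congrArg Subtype.val h) rfl,
          fun φ => ⟨(hA.2 X φ.1 φ.2).choose, Subtype.ext (hA.2 X φ.1 φ.2).choose_spec.1⟩⟩
      homEquiv_comp := fun {X X'} a b => Subtype.ext (by
        show (H ◁ (a ≫ b)) ≫ υ = (H ◁ a) ≫ (H ◁ b) ≫ υ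
        rw [MonoidalCategory.whiskerLeft_comp, Category.assoc]) }
  let iA : GrpObj A := GrpObj.ofRepresentableBy A (charFunctor H) r
  refine ⟨iA, fun X a b => ?_⟩
  have hμ : (H ◁ iA.mul) ≫ υ = ((H ◁ fst A A) ≫ υ) * ((H ◁ snd A A) ≫ υ) :=
    congrArg Subtype.val (r.homEquiv.apply_symm_apply (r.homEquiv (fst A A) * r.homEquiv (snd A A)))
  show (H ◁ (lift a b ≫ iA.mul)) ≫ υ = _
  rw [MonoidalCategory.whiskerLeft_comp, Category.assoc, hμ, MonObj.comp_mul, ← MonoidalCategory.whiskerLeft_comp_assoc,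
    ← MonoidalCategory.whiskerLeft_comp_assoc, lift_fst, lift_snd]

/-- The points of the character scheme of a diagonalisable group multiply as characters. -/
theorem pt_family_mul {U : Scheme.{u}} {M : Type} [AddCommGroup M] {H' G' : Over U} [GrpObj H'] [GrpObj G']
    (e : Grp.mk H' ≅ Grp.mk (Red.DS U M)) (e' : Grp.mk G' ≅ Grp.mk (Red.DS U ℤ))
    {υ : Red.DS U M ⊗ TwC.const U (ULift.{u} (ℤ →+ M)) ⟶ Red.DS U ℤ}
    (hpt : ∀ (ψ : ULift.{u} (ℤ →+ M)) (X : Over U) (x : X ⟶ Red.DS U M),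
      lift x (toUnit X ≫ TwC.pt U _ ψ) ≫ υ = x ≫ Red.DSmap U ψ.down) (m n : ULift.{u} (ℤ →+ M)) :
    (H' ◁ TwC.pt U _ m) ≫ (e.hom.hom.hom ▷ _) ≫ υ ≫ e'.inv.hom.hom *
      ((H' ◁ TwC.pt U _ n) ≫ (e.hom.hom.hom ▷ _) ≫ υ ≫ e'.inv.hom.hom) =
      (H' ◁ TwC.pt U _ (m + n)) ≫ (e.hom.hom.hom ▷ _) ≫ υ ≫ e'.inv.hom.hom := by
  have h : ∀ k, (H' ◁ TwC.pt U _ k) ≫ (e.hom.hom.hom ▷ _) ≫ υ ≫ e'.inv.hom.hom =
      ((fst H' (𝟙_ (Over U)) ≫ e.hom.hom.hom) ≫ Red.DSmap U k.down) ≫ e'.inv.hom.hom := by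
    intro k
    rw [← hpt k, ← Category.id_comp ((H' ◁ TwC.pt U _ k) ≫ _), ← lift_fst_snd, lift_whiskerLeft_assoc,
      lift_whiskerRight_assoc, Category.assoc, toUnit_unique (snd H' (𝟙_ (Over U))) (toUnit _)]
  rw [h, h, h]
  let b' : Red.DS U ℤ ⟶ G' := e'.inv.hom.hom
  haveI : IsMonHom b' := e'.inv.hom.isMonHom_hom
  refine (MonObj.mul_comp _ _ b').symm.trans ?_
  congr 1
  refine ev_ext fun j => ?_
  simp only [ev_mul, ev_DSmap, ULift.add_down, AddMonoidHom.add_apply, ev_add]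

/-- The scheme of characters of a quasi-isotrivial group of multiplicative type. -/
theorem exists_charScheme {σ : Type u} {U : σ → Scheme.{u}} (f : ∀ s, U s ⟶ S) [∀ s, Etale (f s)]
    (hf : ∀ x : S, ∃ s, x ∈ Set.range (f s)) (M : σ → Type) [∀ s, AddCommGroup (M s)]
    (e : ∀ s, Grp.mk (Red.bc (f s) H) ≅ Grp.mk (Red.DS (U s) (M s))) :
    ∃ (A : Over S) (_ : GrpObj A) (υ : H ⊗ A ⟶ Red.Gm S), AutFam.RepresentsHom H (Red.Gm S) A υ ∧
      (∀ (X : Over S) (h : X ⟶ H) (a b : X ⟶ A), lift h (a * b) ≫ υ = (lift h a ≫ υ) * (lift h b ≫ υ)) ∧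
      ∀ s, ∃ e : Red.bc (f s) A ≅ TwC.const (U s) (Multiplicative (ULift.{u} (ℤ →+ M s))),
        TwC.IsConstGrp (Multiplicative (ULift.{u} (ℤ →+ M s))) (Red.bc (f s) A) e := by
  have e' := fun s => (GrpSchLib.MultTypeBC.bc_DS (f s) ℤ).some
  choose υ₀ hυ₀ hpt using fun s => exists_representsHom_DS (U s) (M s) ℤ
  let υ₁ := fun s => ((e s).hom.hom.hom ▷ _) ≫ υ₀ s ≫ (e' s).inv.hom.hom
  obtain ⟨A, υ, hA, hloc⟩ := exists_representsHom_etale f hf (fun s => ULift.{u} (ℤ →+ M s)) υ₁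
    (fun s => representsHom_of_iso (e s) (e' s) (hυ₀ s))
  obtain ⟨iA, hmul⟩ := exists_grpObj_of_representsHom hA
  refine ⟨A, iA, υ, hA, fun X h a b => ?_, fun s => ?_⟩
  · have e0 : ∀ c : X ⟶ A, lift h c ≫ υ = lift h (𝟙 X) ≫ (H ◁ c) ≫ υ := fun c => by
      rw [lift_whiskerLeft_assoc, Category.id_comp]
    rw [e0, e0, e0, hmul, MonObj.comp_mul]
  · obtain ⟨eA, heA⟩ := hloc s
    refine ⟨eA, fun m n => (theta_bijective (f s)).injective ?_⟩
    rw [theta_mul]
    refine (hA.2 _ _ (isHomFamily_comp hA.1 _)).unique ?_ rfl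
    beta_reduce
    refine (toBc_bijective (f s)).injective ?_
    have key : ∀ k : ULift.{u} (ℤ →+ M s), toBc (f s) ((H ◁ theta (f s) (TwC.pt (U s) _ k ≫ eA.inv)) ≫ υ) =
        (Red.bc (f s) H ◁ TwC.pt (U s) _ k) ≫ υ₁ s := fun k => by
      rw [theta_comp, MonoidalCategory.whiskerLeft_comp, Category.assoc, toBc_natural, heA]
    rw [hmul, toBc_mul]
    exact (congrArg₂ (· * ·) (key m.toAdd) (key n.toAdd)).trans
      ((pt_family_mul (e s) (e' s) (hpt s) m.toAdd n.toAdd).trans (key (m.toAdd + n.toAdd)).symm)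

end Char

end Groth.Agent.HomRepLib
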