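import Groth.Agent.HomRepLib.DiagHom
import Mathlib.AlgebraicGeometry.Limits

/-!
# The constant scheme of homomorphisms of character groups represents homomorphisms of diagonalisable groups
-/

universe u

open CategoryTheory CategoryTheory.Limits MonoidalCategory CartesianMonoidalCategory MonObj GrpObj AlgebraicGeometry
open TopologicalSpace

namespace Groth.Agent.HomRepLib

set_option backward.isDefEq.respectTransparency.types false

variable {S : Scheme.{u}}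

/-- An open piece of a scheme over `S`. -/
noncomputable abbrev piece (X : Over S) (O : X.left.Opens) : Over S := Over.mk (O.ι ≫ X.hom)

/-- The inclusion of an open piece. -/
noncomputable abbrev inc (X : Over S) (O : X.left.Opens) : piece X O ⟶ X := Over.homMk O.ι rfl

theorem range_inc (X : Over S) (O : X.left.Opens) : Set.range (inc X O).left ⊆ (O : Set X.left) :=
  (Scheme.Opens.range_ι O).le

/-- A morphism landing in an open piece factors through it. -/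
theorem exists_fac_inc {X Y : Over S} (O : X.left.Opens) (h : Y ⟶ X) (hr : Set.range h.left ⊆ (O : Set X.left)) :
    ∃ l : Y ⟶ piece X O, l ≫ inc X O = h := by
  have hr' : Set.range h.left ⊆ Set.range O.ι := hr.trans (Scheme.Opens.range_ι O).ge
  refine ⟨Over.homMk (IsOpenImmersion.lift O.ι h.left hr') ?_, Over.OverMorphism.ext (IsOpenImmersion.lift_fac _ _ _)⟩
  show IsOpenImmersion.lift O.ι h.left hr' ≫ O.ι ≫ X.hom = Y.hom
  rw [IsOpenImmersion.lift_fac_assoc, Over.w h]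

/-- Morphisms agreeing on an open covering agree. -/
theorem hom_ext_pieces {X Y : Over S} {κ : Type*} (O : κ → X.left.Opens) (hO : ∀ x, ∃ i, x ∈ O i) {F F' : X ⟶ Y}
    (h : ∀ i, inc X (O i) ≫ F = inc X (O i) ≫ F') : F = F' := by
  refine Over.OverMorphism.ext (Scheme.Cover.hom_ext (X.left.openCoverOfIsOpenCover O ?_) _ _ fun i => ?_)
  · exact eq_top_iff.2 fun x _ => Opens.mem_iSup.2 (hO x)
  · exact congrArg Over.Hom.left (h i)

/-- Morphisms on the members of a disjoint open covering glue. -/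
theorem exists_glue {X Y : Over S} {κ : Type u} (O : κ → X.left.Opens) (hO : ∀ x, ∃ i, x ∈ O i)
    (hd : ∀ i j x, x ∈ O i → x ∈ O j → i = j) (f : ∀ i, piece X (O i) ⟶ Y) :
    ∃ F : X ⟶ Y, ∀ i, inc X (O i) ≫ F = f i := by
  let 𝒰 := X.left.openCoverOfIsOpenCover O (eq_top_iff.2 fun x _ => Opens.mem_iSup.2 (hO x))
  have hc : ∀ i j, pullback.fst (𝒰.f i) (𝒰.f j) ≫ (f i).left = pullback.snd _ _ ≫ (f j).left := by
    intro i j
    by_cases h : i = j
    · subst h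
      rw [fst_eq_snd_of_mono_eq]
      rfl
    · haveI : IsEmpty ↥(pullback (𝒰.f i) (𝒰.f j)) := ⟨fun z => h (hd i j (𝒰.f i (pullback.fst (𝒰.f i) (𝒰.f j) z))
        ((Scheme.Opens.range_ι (O i)).le ⟨_, rfl⟩) (by
          rw [← Scheme.Hom.comp_apply, pullback.condition, Scheme.Hom.comp_apply]
          exact (Scheme.Opens.range_ι (O j)).le ⟨_, rfl⟩))⟩
      exact isInitialOfIsEmpty.hom_ext _ _
  refine ⟨Over.homMk (𝒰.glueMorphisms (fun i => (f i).left) hc) (Scheme.Cover.hom_ext 𝒰 _ _ fun i => ?_),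
    fun i => Over.OverMorphism.ext (𝒰.ι_glueMorphisms _ hc i)⟩
  rw [← Category.assoc, 𝒰.ι_glueMorphisms]
  exact Over.w (f i)

theorem DSmap_mul {M N : Type} [AddCommGroup M] [AddCommGroup N] {X : Over S} (x y : X ⟶ Red.DS S M) (ψ : N →+ M) :
    (x * y) ≫ Red.DSmap S ψ = (x ≫ Red.DSmap S ψ) * (y ≫ Red.DSmap S ψ) :=
  haveI := S5427.isMonHom_DSmap S ψ
  MonObj.mul_comp ..

variable (S) (M N : Type) [AddCommGroup M] [AddCommGroup N]

/-- For a finitely generated `N` the homomorphisms `D(M) → D(N)` are represented by the constant scheme on the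
homomorphisms `N → M`, the point `ψ` corresponding to the homomorphism induced by `ψ`. -/
theorem exists_representsHom_DS [AddGroup.FG N] :
    ∃ υ : Red.DS S M ⊗ TwC.const S (ULift.{u} (N →+ M)) ⟶ Red.DS S N,
      AutFam.RepresentsHom (Red.DS S M) (Red.DS S N) (TwC.const S (ULift.{u} (N →+ M))) υ ∧
      ∀ (ψ : ULift.{u} (N →+ M)) (X : Over S) (x : X ⟶ Red.DS S M),
        lift x (toUnit X ≫ TwC.pt S _ ψ) ≫ υ = x ≫ Red.DSmap S ψ.down := by
  classical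
  let I : Type u := ULift.{u} (N →+ M)
  let A : Over S := TwC.const S I
  let G : Over S := Red.DS S M
  let ι' : I → (S ⟶ A.left) := fun ψ => Sigma.ι (fun _ : I => S) ψ
  let O : I → A.left.Opens := fun ψ => (ι' ψ).opensRange
  have hOc : ∀ a : A.left, ∃ ψ, a ∈ O ψ := fun a => by
    obtain ⟨⟨ψ, s⟩, hs⟩ := (sigmaMk fun _ : I => S).surjective a
    exact ⟨ψ, s, by rwa [sigmaMk_mk] at hs⟩
  have hOd : ∀ ψ ψ' a, a ∈ O ψ → a ∈ O ψ' → ψ = ψ' := by
    rintro ψ ψ' a ⟨s, hs⟩ ⟨s', hs'⟩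
    exact (Sigma.mk.inj ((sigmaι_eq_iff _ _ _ _ _).mp (hs.trans hs'.symm))).1
  -- the universal family
  let P : I → (G ⊗ A).left.Opens := fun ψ => (snd G A).left ⁻¹ᵁ O ψ
  obtain ⟨υ, hυ⟩ := exists_glue (X := G ⊗ A) P (fun z => hOc _) (fun ψ ψ' z h h' => hOd ψ ψ' _ h h')
    (fun ψ => inc (G ⊗ A) (P ψ) ≫ fst G A ≫ Red.DSmap S ψ.down)
  have hυ' : ∀ (ψ : I) (X : Over S) (x : X ⟶ G) (a : X ⟶ A), Set.range a.left ⊆ (O ψ : Set A.left) →
      lift x a ≫ υ = x ≫ Red.DSmap S ψ.down := by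
    intro ψ X x a ha
    obtain ⟨l, hl⟩ := exists_fac_inc (P ψ) (lift x a) (by
      rintro _ ⟨z, rfl⟩
      show (snd G A).left ((lift x a).left z) ∈ O ψ
      rw [← Scheme.Hom.comp_apply, ← Over.comp_left, lift_snd]
      exact ha ⟨z, rfl⟩)
    rw [← hl, Category.assoc, hυ, ← Category.assoc, hl, lift_fst_assoc]
  have hfam : AutFam.IsHomFamily G (Red.DS S N) υ := by
    intro X g₁ g₂ t
    refine hom_ext_pieces (fun ψ => t.left ⁻¹ᵁ O ψ) (fun z => hOc _) fun ψ => ?_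
    have ht : Set.range (inc X (t.left ⁻¹ᵁ O ψ) ≫ t).left ⊆ (O ψ : Set A.left) := by
      rintro _ ⟨z, rfl⟩
      exact z.2
    rw [MonObj.comp_mul]
    simp only [← Category.assoc, comp_lift]
    rw [hυ' ψ _ _ _ ht, hυ' ψ _ _ _ ht, hυ' ψ _ _ _ ht, MonObj.comp_mul, DSmap_mul]
  refine ⟨υ, ⟨hfam, fun T φ hφ => ?_⟩, fun ψ X x => hυ' ψ X x _ ?_⟩
  swap
  · rintro _ ⟨z, rfl⟩
    exact ⟨_, (Scheme.Hom.comp_apply _ _ z).symm⟩
  -- the classifying morphism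
  let V : I → T.left.Opens := fun ψ => sSup {V | IsInducedOn φ ψ.down (V : Set T.left)}
  have hVd : ∀ ψ ψ' y, y ∈ V ψ → y ∈ V ψ' → ψ = ψ' := by
    intro ψ ψ' y hy hy'
    obtain ⟨W, hW, hyW⟩ := Opens.mem_sSup.1 hy
    obtain ⟨W', hW', hyW'⟩ := Opens.mem_sSup.1 hy'
    exact ULift.down_injective (isInducedOn_unique φ hW hW' hyW hyW')
  have hVc : ∀ y, ∃ ψ, y ∈ V ψ := fun y => by
    obtain ⟨ψ, W, hyW, hW⟩ := exists_isInducedOn φ hφ y
    exact ⟨⟨ψ⟩, Opens.mem_sSup.2 ⟨W, hW, hyW⟩⟩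
  have hV : ∀ ψ, IsInducedOn φ ψ.down (V ψ : Set T.left) := by
    intro ψ X x t ht
    refine hom_ext_pieces (κ := {W : T.left.Opens // IsInducedOn φ ψ.down (W : Set T.left)})
      (fun W => t.left ⁻¹ᵁ W.1) (fun z => ?_) fun W => ?_
    · obtain ⟨W, hW, hzW⟩ := Opens.mem_sSup.1 (ht ⟨z, rfl⟩)
      exact ⟨⟨W, hW⟩, hzW⟩
    · rw [← Category.assoc, comp_lift, W.2 _ _ _ (by rintro _ ⟨z, rfl⟩; exact z.2), Category.assoc]
  obtain ⟨a, ha⟩ := exists_glue (X := T) (Y := A) V hVc hVd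
    (fun ψ => toUnit _ ≫ TwC.pt S I ψ)
  have hrange : ∀ ψ, Set.range (inc T (V ψ) ≫ a).left ⊆ (O ψ : Set A.left) := fun ψ => by
    rw [ha]
    rintro _ ⟨z, rfl⟩
    exact ⟨_, (Scheme.Hom.comp_apply _ _ z).symm⟩
  refine ⟨a, ?_, fun a' ha' => ?_⟩
  · show (G ◁ a) ≫ υ = φ
    refine hom_ext_pieces (fun ψ => (snd G T).left ⁻¹ᵁ V ψ) (fun z => hVc _) fun ψ => ?_
    let h := inc (G ⊗ T) ((snd G T).left ⁻¹ᵁ V ψ)
    have hs : Set.range (h ≫ snd G T).left ⊆ (V ψ : Set T.left) := by rintro _ ⟨z, rfl⟩; exact z.2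
    obtain ⟨l, hl⟩ := exists_fac_inc (V ψ) (h ≫ snd G T) hs
    have e : h = lift (h ≫ fst G T) (h ≫ snd G T) := by rw [← comp_lift, lift_fst_snd, Category.comp_id]
    show h ≫ (G ◁ a) ≫ υ = h ≫ φ
    rw [e, lift_whiskerLeft_assoc, hV ψ _ _ _ hs, hυ' ψ _ _ _ ?_]
    rw [← hl, Category.assoc]
    rintro _ ⟨z, rfl⟩
    exact hrange ψ ⟨l.left z, (Scheme.Hom.comp_apply _ _ z).symm⟩
  · beta_reduce at ha'
    refine hom_ext_pieces (fun p : I × I => V p.1 ⊓ a'.left ⁻¹ᵁ O p.2) (fun y => ?_) fun p => ?_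
    · obtain ⟨ψ, h⟩ := hVc y
      obtain ⟨ψ', h'⟩ := hOc (a'.left y)
      exact ⟨(ψ, ψ'), h, h'⟩
    obtain ⟨ψ, ψ'⟩ := p
    let h := inc T (V ψ ⊓ a'.left ⁻¹ᵁ O ψ')
    show h ≫ a' = h ≫ a
    rcases isEmpty_or_nonempty ↥(V ψ ⊓ a'.left ⁻¹ᵁ O ψ') with he | ⟨⟨y⟩⟩
    · haveI : IsEmpty ↥(piece T (V ψ ⊓ a'.left ⁻¹ᵁ O ψ')).left := he
      exact Over.OverMorphism.ext (isInitialOfIsEmpty.hom_ext _ _)
    have hψ : ψ = ψ' := by
      refine ULift.down_injective (isInducedOn_unique φ (hV ψ) (V' := (a'.left ⁻¹ᵁ O ψ' : Set T.left)) ?_ y.2.1 y.2.2)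
      intro X x t ht
      rw [← ha', lift_whiskerLeft_assoc, hυ' ψ' _ _ _ ?_]
      rintro _ ⟨z, rfl⟩
      exact ht ⟨z, rfl⟩
    subst hψ
    have h1 : ∀ b : T ⟶ A, Set.range (h ≫ b).left ⊆ (O ψ : Set A.left) → h ≫ b = toUnit _ ≫ TwC.pt S I ψ := by
      intro b hb
      refine Over.OverMorphism.ext ?_
      have e := IsOpenImmersion.lift_fac (ι' ψ) (h ≫ b).left hb
      have e2 : IsOpenImmersion.lift (ι' ψ) (h ≫ b).left hb = (toUnit (piece T (V ψ ⊓ a'.left ⁻¹ᵁ O ψ))).left := by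
        have h3 := congrArg (· ≫ A.hom) e
        have h4 : ι' ψ ≫ A.hom = 𝟙 S := Sigma.ι_desc (fun _ : I => 𝟙 S) ψ
        simp only [Category.assoc, h4, Category.comp_id] at h3
        refine (h3.trans (Over.w (h ≫ b))).trans ?_
        simp
      rw [← e, e2]
      rfl
    rw [h1 a' (by rintro _ ⟨z, rfl⟩; exact z.2.2), h1 a]
    obtain ⟨l, hl⟩ := exists_fac_inc (V ψ) h (by rintro _ ⟨z, rfl⟩; exact z.2.1)
    rw [← hl, Category.assoc]
    rintro _ ⟨z, rfl⟩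
    exact hrange ψ ⟨l.left z, (Scheme.Hom.comp_apply _ _ z).symm⟩

end Groth.Agent.HomRepLib
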