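import Groth.Agent.HomRepLib.Fam
import Groth.Agent.DescLib.SigmaLocal
import Groth.Agent.FpqcDescLib.Closed
import Groth.Agent.EtFound.Descent

/-!
# Descent of representability of functors of homomorphisms along fpqc coverings

If the functor of homomorphisms is representable over an fpqc covering by a scheme affine over the covering, it is
representable by a scheme affine over the base: the universal family defines a descent datum.
-/

universe u

open CategoryTheory CategoryTheory.Limits MonoidalCategory CartesianMonoidalCategory MonObj GrpObj AlgebraicGeometry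

namespace Groth.Agent.HomRepLib

set_option backward.isDefEq.respectTransparency.types false

/-- Descent data affine over an fpqc covering are effective. -/
theorem effective_affine_covering {X S : Scheme.{u}} (p : X ⟶ S) (hp : FpqcDescLib.IsCovering p) (D : Desc.SchDD p)
    [h : IsAffineHom D.obj.hom] : ∃ U : Over S, Nonempty ((Desc.toDD p).obj U ≅ D) :=
  (DescLib.isEffective_ofSchDD_iff p D).1 (DescLib.effective_of_affine_case @IsAffineHom (DescLib.prop_sigmaMap' _)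
    (fun X S p _ _ _ _ D (hD : IsAffineHom D.obj.hom) =>
      haveI : IsAffine D.obj.left := isAffine_of_isAffineHom D.obj.hom
      DescLib.effective_affine p D)
    (fun _ : PUnit.{u + 1} => p) (by rw [Presieve.ofArrows_pUnit]; exact hp) _ fun _ => h)

variable {S : Scheme.{u}}

theorem isPullback_whiskerLeft (P : Over S) {Y X : Over S} (i : Y ⟶ X) :
    IsPullback (P ◁ i) (snd P Y) (snd P X) i := by
  refine IsPullback.of_isLimit' ⟨whiskerLeft_snd P i⟩ (PullbackCone.IsLimit.mk _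
    (fun s => lift (s.fst ≫ fst P X) s.snd) (fun s => ?_) (fun s => lift_snd _ _) fun s m h1 h2 => ?_)
  · apply CartesianMonoidalCategory.hom_ext
    · rw [Category.assoc, whiskerLeft_fst, lift_fst]
    · rw [Category.assoc, whiskerLeft_snd, lift_snd_assoc, ← s.condition]
  · apply CartesianMonoidalCategory.hom_ext
    · rw [lift_fst, ← h1, Category.assoc, whiskerLeft_fst]
    · rw [lift_snd]; exact h2

theorem covers_whiskerLeft (P : Over S) {Y X : Over S} {i : Y ⟶ X} (h : FpqcDescLib.Covers i.left) :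
    FpqcDescLib.Covers (P ◁ i).left :=
  h.over_pullback (snd P X) (P ◁ i) (snd P Y) (isPullback_whiskerLeft P i)

variable {G G' : Over S}

/-- Two points with the same value of a family. -/
def SameFam {W : Over S} (w : G ⊗ W ⟶ G') {T : Scheme.{u}} (v v' : T ⟶ W.left) : Prop :=
  ∀ (Z : Over S) (e : Z.left ⟶ T) (a b : Z ⟶ W), a.left = e ≫ v → b.left = e ≫ v' → (G ◁ a) ≫ w = (G ◁ b) ≫ w

/-- The descent datum given by a universal family over a covering. -/
theorem exists_descentDatum (P : ∀ T : Over S, (G ⊗ T ⟶ G') → Prop)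
    (hP : ∀ {T T' : Over S} (φ : G ⊗ T ⟶ G'), P T φ → ∀ a : T' ⟶ T, P T' ((G ◁ a) ≫ φ))
    {U W : Over S} (i : W ⟶ U) (w : G ⊗ W ⟶ G') (hw : P W w)
    (huniv : ∀ (T : Over S) (t : T ⟶ U) (φ : G ⊗ T ⟶ G'), P T φ →
      ∃! a : T ⟶ W, a ≫ i = t ∧ (G ◁ a) ≫ w = φ) :
    ∃ D : Desc.SchDD U.hom, ∃ hD : D.obj = Over.mk i.left,
      ∀ ⦃T : Scheme.{u}⦄ (x₀ x₁ : T ⟶ U.left) (h : x₀ ≫ U.hom = x₁ ≫ U.hom) (v : Desc.Lifts D.obj x₀),
        SameFam w (v.1 ≫ eqToHom (congrArg (fun o => o.left) hD))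
          ((D.φ x₀ x₁ h v).1 ≫ eqToHom (congrArg (fun o => o.left) hD)) := by
  have hov : ∀ {T : Scheme.{u}} {x : T ⟶ U.left} (v : Desc.Lifts (Over.mk i.left) x), v.1 ≫ W.hom = x ≫ U.hom := by
    intro T x v
    rw [← Over.w i, ← Category.assoc]
    exact congrArg (· ≫ U.hom) v.2
  have key : ∀ {T : Scheme.{u}} (x₀ x₁ : T ⟶ U.left) (_ : x₀ ≫ U.hom = x₁ ≫ U.hom)
      (v : Desc.Lifts (Over.mk i.left) x₀), ∃ v' : Desc.Lifts (Over.mk i.left) x₁, SameFam w v.1 v'.1 := by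
    intro T x₀ x₁ h v
    let Z₀ : Over S := Over.mk (x₀ ≫ U.hom)
    let a₀ : Z₀ ⟶ W := Over.homMk v.1 (hov v)
    obtain ⟨b₀, ⟨hb₁, hb₂⟩, -⟩ := huniv Z₀ (Over.homMk x₁ h.symm) _ (hP w hw a₀)
    refine ⟨⟨b₀.left, congrArg Over.Hom.left hb₁⟩, fun Z e a b ha hb => ?_⟩
    let r : Z ⟶ Z₀ := Over.homMk e (by
      show e ≫ x₀ ≫ U.hom = Z.hom
      rw [← hov v, ← Category.assoc, ← ha]
      exact Over.w a)
    have hra : r ≫ a₀ = a := Over.OverMorphism.ext ha.symm
    have hrb : r ≫ b₀ = b := Over.OverMorphism.ext hb.symm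
    rw [← hra, ← hrb, MonoidalCategory.whiskerLeft_comp, MonoidalCategory.whiskerLeft_comp, Category.assoc,
      Category.assoc, hb₂]
  choose φ hφ using @key
  have ext : ∀ {T : Scheme.{u}} {x : T ⟶ U.left} (v v' : Desc.Lifts (Over.mk i.left) x),
      SameFam w v.1 v'.1 → v = v' := by
    intro T x v v' h
    let Z₀ : Over S := Over.mk (x ≫ U.hom)
    let a : Z₀ ⟶ W := Over.homMk v.1 (hov v)
    let b : Z₀ ⟶ W := Over.homMk v'.1 (hov v')
    have hab : a = b := (huniv Z₀ (Over.homMk x rfl) _ (hP w hw a)).unique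
      ⟨Over.OverMorphism.ext v.2, rfl⟩
      ⟨Over.OverMorphism.ext v'.2, (h Z₀ (𝟙 T) a b (Category.id_comp _).symm (Category.id_comp _).symm).symm⟩
    exact Subtype.ext (congrArg Over.Hom.left hab)
  have self : ∀ {T : Scheme.{u}} (x : T ⟶ U.left) (v : Desc.Lifts (Over.mk i.left) x), φ x x rfl v = v :=
    fun x v => ext _ _ fun Z e a b ha hb => (hφ x x rfl v Z e b a hb ha).symm
  have comp : ∀ {T : Scheme.{u}} (x₀ x₁ x₂ : T ⟶ U.left) (h₀₁ : x₀ ≫ U.hom = x₁ ≫ U.hom)
      (h₁₂ : x₁ ≫ U.hom = x₂ ≫ U.hom) (v : Desc.Lifts (Over.mk i.left) x₀),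
      φ x₁ x₂ h₁₂ (φ x₀ x₁ h₀₁ v) = φ x₀ x₂ (h₀₁.trans h₁₂) v := by
    intro T x₀ x₁ x₂ h₀₁ h₁₂ v
    refine ext _ _ fun Z e a b ha hb => ?_
    have hZ : e ≫ x₂ ≫ U.hom = Z.hom := by
      rw [← hov (φ x₀ x₂ (h₀₁.trans h₁₂) v), ← Category.assoc, ← hb]
      exact Over.w b
    let c : Z ⟶ W := Over.homMk (e ≫ (φ x₀ x₁ h₀₁ v).1) (by rw [Category.assoc, hov, h₁₂, hZ])
    let d : Z ⟶ W := Over.homMk (e ≫ v.1) (by rw [Category.assoc, hov, h₀₁, h₁₂, hZ])
    rw [← hφ x₁ x₂ h₁₂ _ Z e c a rfl ha, ← hφ x₀ x₁ h₀₁ v Z e d c rfl rfl, hφ x₀ x₂ _ v Z e d b rfl hb]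
  refine ⟨{ obj := Over.mk i.left
            φ := fun T x₀ x₁ h =>
              { toFun := φ x₀ x₁ h
                invFun := φ x₁ x₀ h.symm
                left_inv := fun v => (comp x₀ x₁ x₀ h h.symm v).trans (self x₀ v)
                right_inv := fun v => (comp x₁ x₀ x₁ h.symm h v).trans (self x₁ v) }
            φ_natural := fun T T' g x₀ x₁ h h' v v' hv' => ?_
            φ_self := fun T x v => self x v
            φ_comp := fun T x₀ x₁ x₂ h₀₁ h₁₂ v => comp x₀ x₁ x₂ h₀₁ h₁₂ v }, rfl, fun T x₀ x₁ h v => ?_⟩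
  · show (φ (g ≫ x₀) (g ≫ x₁) h' v').1 = g ≫ (φ x₀ x₁ h v).1
    refine congrArg (fun w : Desc.Lifts (Over.mk i.left) (g ≫ x₁) => w.1) (ext _ ⟨g ≫ (φ x₀ x₁ h v).1,
      (Category.assoc _ _ _).trans (congrArg (g ≫ ·) (φ x₀ x₁ h v).2)⟩ fun Z e a b ha hb => ?_)
    let c : Z ⟶ W := Over.homMk (e ≫ v'.1) (by
      rw [Category.assoc, hov v', h', ← hov (φ (g ≫ x₀) (g ≫ x₁) h' v'), ← Category.assoc, ← ha]
      exact Over.w a)
    rw [← hφ _ _ h' v' Z e c a rfl ha]
    exact hφ x₀ x₁ h v Z (e ≫ g) c b (by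
      show e ≫ v'.1 = _
      rw [hv', Category.assoc]) (hb.trans (Category.assoc _ _ _).symm)
  · intro Z e a b ha hb
    simp only [eqToHom_refl, Category.comp_id] at ha hb
    exact hφ x₀ x₁ h v Z e a b ha hb

set_option maxHeartbeats 800000 in
/-- Descent of representability of a functor of families along an fpqc covering when the local scheme is affine over
the covering, together with the cartesian comparison with the local scheme. -/
theorem exists_represents_of_fpqc_affine (P' : ∀ T : Over S, (G ⊗ T ⟶ G') → Prop)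
    (hP : ∀ {T T' : Over S} (φ : G ⊗ T ⟶ G'), P' T φ → ∀ a : T' ⟶ T, P' T' ((G ◁ a) ≫ φ))
    (hP' : ∀ {T T' : Over S} (φ : G ⊗ T ⟶ G') (q : T' ⟶ T), FpqcDescLib.Covers q.left →
      P' T' ((G ◁ q) ≫ φ) → P' T φ)
    {U W : Over S} (hU : FpqcDescLib.IsCovering U.hom) (i : W ⟶ U)
    [IsAffineHom i.left] (w : G ⊗ W ⟶ G') (hw : P' W w)
    (huniv : ∀ (T : Over S) (t : T ⟶ U) (φ : G ⊗ T ⟶ G'), P' T φ →
      ∃! a : T ⟶ W, a ≫ i = t ∧ (G ◁ a) ≫ w = φ) :
    ∃ (A : Over S) (υ : G ⊗ A ⟶ G'), P' A υ ∧ IsAffineHom A.hom ∧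
      (∀ (T : Over S) (φ : G ⊗ T ⟶ G'), P' T φ → ∃! a : T ⟶ A, (G ◁ a) ≫ υ = φ) ∧
      ∃ e : W.left ≅ pullback U.hom A.hom, e.hom ≫ pullback.fst U.hom A.hom = i.left := by
  obtain ⟨D, hD, hφ⟩ := exists_descentDatum P' hP i w hw huniv
  haveI : IsAffineHom D.obj.hom := by rw [hD]; exact ‹IsAffineHom i.left›
  obtain ⟨A, ⟨I⟩⟩ := effective_affine_covering U.hom hU D
  let P : Over S := Over.mk (pullback.fst U.hom A.hom ≫ U.hom)
  let pU : P ⟶ U := Over.homMk (pullback.fst U.hom A.hom) rfl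
  let pA : P ⟶ A := Over.homMk (pullback.snd U.hom A.hom) pullback.condition.symm
  let ε : ((Desc.toDD U.hom).obj A).obj ≅ Over.mk i.left :=
    (⟨I.hom.hom, I.inv.hom, congrArg Desc.SchDD.Hom.hom I.hom_inv_id,
      congrArg Desc.SchDD.Hom.hom I.inv_hom_id⟩ : ((Desc.toDD U.hom).obj A).obj ≅ D.obj) ≪≫ eqToIso hD
  have hεi : ε.hom.left ≫ i.left = pullback.fst U.hom A.hom := Over.w ε.hom
  let ξ : P ≅ W := Over.isoMk ((Over.forget _).mapIso ε) (by
    show ε.hom.left ≫ W.hom = pullback.fst U.hom A.hom ≫ U.hom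
    rw [← Over.w i, ← Category.assoc, hεi]
    rfl)
  have hξi : ξ.hom ≫ i = pU := Over.OverMorphism.ext hεi
  -- points with the same image in `A` have the same family
  have keyA : ∀ {Z : Over S} (a b : Z ⟶ P), a ≫ pA = b ≫ pA →
      (G ◁ (a ≫ ξ.hom)) ≫ w = (G ◁ (b ≫ ξ.hom)) ≫ w := by
    intro Z a b hab
    have h : (a.left ≫ pullback.fst U.hom A.hom) ≫ U.hom = (b.left ≫ pullback.fst U.hom A.hom) ≫ U.hom :=
      (Category.assoc _ _ _).trans ((Over.w a).trans ((Over.w b).symm.trans (Category.assoc _ _ _).symm))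
    let va : Desc.Lifts ((Desc.toDD U.hom).obj A).obj (a.left ≫ pullback.fst U.hom A.hom) := ⟨a.left, rfl⟩
    let wa : Desc.Lifts D.obj (a.left ≫ pullback.fst U.hom A.hom) :=
      ⟨a.left ≫ I.hom.hom.left, (Category.assoc _ _ _).trans (congrArg (a.left ≫ ·) (Over.w I.hom.hom))⟩
    have hc := I.hom.comm _ (b.left ≫ pullback.fst U.hom A.hom) h va wa rfl
    have hcan : (Desc.canMap U.hom A _ (b.left ≫ pullback.fst U.hom A.hom) h va).1 = b.left := by
      refine pullback.hom_ext ?_ ?_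
      · exact pullback.lift_fst _ _ _
      · simp only [Desc.canMap_val, pullback.lift_snd, va]
        exact congrArg Over.Hom.left hab
    refine hφ _ _ h wa Z (𝟙 _) _ _ ?_ ?_
    · show a.left ≫ I.hom.hom.left ≫ (eqToHom hD).left = 𝟙 _ ≫ (a.left ≫ I.hom.hom.left) ≫ _
      rw [Category.id_comp, Category.assoc, Over.eqToHom_left]
    · show b.left ≫ I.hom.hom.left ≫ (eqToHom hD).left = 𝟙 _ ≫ _
      rw [Category.id_comp, hc, Category.assoc, Over.eqToHom_left]
      exact congrArg (· ≫ I.hom.hom.left ≫ _) hcan.symm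
  -- and conversely
  have keyA' : ∀ {Z : Over S} (a b : Z ⟶ P), (G ◁ (a ≫ ξ.hom)) ≫ w = (G ◁ (b ≫ ξ.hom)) ≫ w →
      a ≫ pA = b ≫ pA := by
    intro Z a b hab
    let c : Z ⟶ P := Over.homMk (pullback.lift (b.left ≫ pullback.fst U.hom A.hom) (a.left ≫ pullback.snd U.hom A.hom)
      (by rw [Category.assoc, Category.assoc, ← pullback.condition]
          exact (Over.w b).trans (Over.w a).symm)) (by
        show pullback.lift _ _ _ ≫ pullback.fst U.hom A.hom ≫ U.hom = Z.hom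
        rw [pullback.lift_fst_assoc, Category.assoc]
        exact Over.w b)
    have hca : c ≫ pA = a ≫ pA := Over.OverMorphism.ext (pullback.lift_snd _ _ _)
    have hcb : c ≫ pU = b ≫ pU := Over.OverMorphism.ext (pullback.lift_fst _ _ _)
    have h := (huniv Z (b ≫ pU) _ (hP w hw (b ≫ ξ.hom))).unique
      (y₁ := c ≫ ξ.hom) (y₂ := b ≫ ξ.hom)
      ⟨by rw [Category.assoc, hξi, hcb], by rw [keyA c a hca, hab]⟩ ⟨by rw [Category.assoc, hξi], rfl⟩
    rw [cancel_mono] at h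
    rw [← hca, h]
  have hcA : FpqcDescLib.Covers pA.left :=
    (FpqcDescLib.covers_of_isCovering hU).pullback A.hom _ _ (IsPullback.of_hasPullback U.hom A.hom).flip
  obtain ⟨υ, hυ, -⟩ := (covers_whiskerLeft G hcA).over_desc ((G ◁ ξ.hom) ≫ w) fun Z a b hab => by
    have e : ∀ c : Z ⟶ G ⊗ P, c ≫ (G ◁ ξ.hom) ≫ w =
        lift (c ≫ fst G P) (𝟙 Z) ≫ (G ◁ ((c ≫ snd G P) ≫ ξ.hom)) ≫ w := by
      intro c
      conv_lhs => rw [← lift_comp_fst_snd c, lift_whiskerLeft_assoc]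
      rw [lift_whiskerLeft_assoc, Category.id_comp]
    have h1 : a ≫ fst G P = b ≫ fst G P := by
      simpa using congrArg (· ≫ fst G A) hab
    have h2 : (a ≫ snd G P) ≫ pA = (b ≫ snd G P) ≫ pA := by
      simpa using congrArg (· ≫ snd G A) hab
    rw [e, e, h1, keyA _ _ h2]
  have hυP : ∀ {Z : Over S} (a : Z ⟶ P), (G ◁ (a ≫ pA)) ≫ υ = (G ◁ (a ≫ ξ.hom)) ≫ w := fun a => by
    rw [MonoidalCategory.whiskerLeft_comp, Category.assoc, hυ, ← MonoidalCategory.whiskerLeft_comp_assoc]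
  have hcov : ∀ T : Over S, FpqcDescLib.Covers (fst T U).left := fun T =>
    (FpqcDescLib.covers_of_isCovering hU).pullback T.hom (fst T U).left (snd T U).left
      (IsPullback.of_hasPullback T.hom U.hom)
  have hpt : ∀ {Z : Over S} (t : Z ⟶ A), ∃ a : Z ⊗ U ⟶ P, a ≫ pA = fst Z U ≫ t ∧ a ≫ pU = snd Z U := by
    intro Z t
    refine ⟨Over.homMk (pullback.lift (snd Z U).left (fst Z U ≫ t).left
      ((Over.w (snd Z U)).trans (Over.w (fst Z U ≫ t)).symm)) ?_, Over.OverMorphism.ext (pullback.lift_snd _ _ _),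
      Over.OverMorphism.ext (pullback.lift_fst _ _ _)⟩
    show pullback.lift _ _ _ ≫ pullback.fst U.hom A.hom ≫ U.hom = _
    rw [pullback.lift_fst_assoc]
    exact Over.w (snd Z U)
  have hfam : P' A υ := hP' υ pA hcA (by rw [hυ]; exact hP w hw ξ.hom)
  refine ⟨A, υ, hfam, ?_, fun T φ hφ' => ?_, (Over.forget _).mapIso ξ.symm, congrArg Over.Hom.left (show ξ.inv ≫ pU = i by rw [← hξi, Iso.inv_hom_id_assoc])⟩
  · haveI := EtFound.fpqc_isAffineHom.{u}
    refine (FpqcDescLib.covers_of_isCovering hU).descends @IsAffineHom A.hom (pullback.fst U.hom A.hom)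
      (pullback.snd U.hom A.hom) (IsPullback.of_hasPullback U.hom A.hom) ?_
    rw [← hεi]
    exact MorphismProperty.comp_mem @IsAffineHom _ _
      (inferInstanceAs (IsAffineHom ((Over.forget _).map ε.hom))) ‹IsAffineHom i.left›
  · obtain ⟨aQ, ⟨haU, haw⟩, haQ⟩ := huniv (T ⊗ U) (snd T U) _ (hP φ hφ' (fst T U))
    obtain ⟨a, ha, -⟩ := (hcov T).over_desc (aQ ≫ ξ.inv ≫ pA) fun Z c d hcd => by
      rw [← Category.assoc aQ, ← Category.assoc, ← Category.assoc d]
      refine keyA' _ _ ?_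
      simp only [Category.assoc, Iso.inv_hom_id, Category.comp_id, MonoidalCategory.whiskerLeft_comp]
      rw [haw, ← MonoidalCategory.whiskerLeft_comp_assoc, ← MonoidalCategory.whiskerLeft_comp_assoc, hcd]
    haveI := (covers_whiskerLeft G (hcov T)).over_epi
    haveI := (hcov T).over_epi
    refine ⟨a, ?_, fun a' ha' => ?_⟩
    · show (G ◁ a) ≫ υ = φ
      rw [← cancel_epi (G ◁ fst T U), ← MonoidalCategory.whiskerLeft_comp_assoc, ha, ← Category.assoc, hυP,
        Category.assoc, Iso.inv_hom_id, Category.comp_id, haw]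
    · beta_reduce at ha'
      obtain ⟨c, hc1, hc2⟩ := hpt a'
      have hcQ : c ≫ ξ.hom = aQ := haQ _ ⟨by rw [Category.assoc, hξi, hc2], by
        rw [← hυP, hc1, MonoidalCategory.whiskerLeft_comp, Category.assoc, ha']⟩
      rw [← cancel_epi (fst T U), ha, ← hc1, ← hcQ, Category.assoc, Iso.hom_inv_id_assoc]

variable [GrpObj G] [GrpObj G']

/-- Being a family of homomorphisms descends along coverings. -/
theorem isHomFamily_of_covers {T T' : Over S} (φ : G ⊗ T ⟶ G') (q : T' ⟶ T) (hq : FpqcDescLib.Covers q.left)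
    (h : AutFam.IsHomFamily G G' ((G ◁ q) ≫ φ)) : AutFam.IsHomFamily G G' φ := by
  intro X g₁ g₂ t
  have hpb : IsPullback (pullback.fst t.left q.left) (pullback.snd t.left q.left) t.left q.left :=
    IsPullback.of_hasPullback _ _
  let Q : Over S := Over.mk (pullback.fst t.left q.left ≫ X.hom)
  let qX : Q ⟶ X := Over.homMk (pullback.fst t.left q.left) rfl
  let qT : Q ⟶ T' := Over.homMk (pullback.snd t.left q.left) (by
    show pullback.snd t.left q.left ≫ T'.hom = pullback.fst t.left q.left ≫ X.hom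
    rw [← Over.w q, ← Category.assoc, ← pullback.condition, Category.assoc, Over.w t])
  haveI : Epi qX := FpqcDescLib.Covers.over_epi
    (show FpqcDescLib.Covers qX.left from hq.pullback t.left _ _ hpb)
  have hsq : qT ≫ q = qX ≫ t := Over.OverMorphism.ext pullback.condition.symm
  have e : ∀ g : X ⟶ G, qX ≫ lift g t ≫ φ = lift (qX ≫ g) qT ≫ (G ◁ q) ≫ φ := fun g => by
    rw [lift_whiskerLeft_assoc, hsq, comp_lift_assoc]
  rw [← cancel_epi qX, e, MonObj.comp_mul, MonObj.comp_mul, e, e]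
  exact h _ _ _ _

/-- Descent of representability along an fpqc covering when the local scheme is affine over the covering. -/
theorem exists_representsHom_of_fpqc_affine {U W : Over S} (hU : FpqcDescLib.IsCovering U.hom) (i : W ⟶ U)
    [IsAffineHom i.left] (w : G ⊗ W ⟶ G') (hw : AutFam.IsHomFamily G G' w)
    (huniv : ∀ (T : Over S) (t : T ⟶ U) (φ : G ⊗ T ⟶ G'), AutFam.IsHomFamily G G' φ →
      ∃! a : T ⟶ W, a ≫ i = t ∧ (G ◁ a) ≫ w = φ) :
    ∃ (A : Over S) (υ : G ⊗ A ⟶ G'), AutFam.RepresentsHom G G' A υ ∧ IsAffineHom A.hom := by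
  obtain ⟨A, υ, hυ, hA, huA, -⟩ := exists_represents_of_fpqc_affine (fun _ φ => AutFam.IsHomFamily G G' φ)
    (fun _ h a => isHomFamily_comp h a) (fun φ q hq h => isHomFamily_of_covers φ q hq h) hU i w hw huniv
  exact ⟨A, υ, ⟨hυ, huA⟩, hA⟩

end Groth.Agent.HomRepLib
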