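import Groth.Agent.HomRepLib.Fam
import Groth.Agent.Pi1Ext.KummerSeq
import Groth.Prelude.Def_TwC
import Mathlib.GroupTheory.Finiteness
import Mathlib.RingTheory.Localization.Away.Basic

/-!
# Homomorphisms between diagonalisable groups

For a finitely generated group `N` the homomorphisms from `D(M)` to `D(N)` are represented by the constant scheme of
homomorphisms from `N` to `M`.
-/

universe u

open CategoryTheory CategoryTheory.Limits MonoidalCategory CartesianMonoidalCategory MonObj GrpObj AlgebraicGeometry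

namespace Groth.Agent.HomRepLib

set_option backward.isDefEq.respectTransparency.types false
set_option maxHeartbeats 400000

open Groth.Agent.Pi1Ext

variable {S : Scheme.{u}} {M N : Type} [AddCommGroup M] [AddCommGroup N]

section Ev

variable {X X' : Over S}

set_option backward.isDefEq.respectTransparency false in
theorem isMonHom_chi (m : M) : IsMonHom (Red.chi S m) := S5427.isMonHom_DSmap S _

theorem chi_mul {X : Over S} (x y : X ⟶ Red.DS S M) (m : M) :
    (x * y) ≫ Red.chi S m = (x ≫ Red.chi S m) * (y ≫ Red.chi S m) :=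
  haveI := isMonHom_chi (S := S) m
  MonObj.mul_comp ..

theorem chi_one {X : Over S} (m : M) : (1 : X ⟶ Red.DS S M) ≫ Red.chi S m = 1 :=
  haveI := isMonHom_chi (S := S) m
  MonObj.one_comp ..

/-- The value of a point of a diagonalisable group at a character. -/
noncomputable def ev (x : X ⟶ Red.DS S M) (m : M) : Γ(X.left, ⊤) :=
  KummerSeq.homOf x (MonoidAlgebra.single (Multiplicative.ofAdd m) 1)

theorem gmFn_chi (x : X ⟶ Red.DS S M) (m : M) : Red.gmFn (x ≫ Red.chi S m) = ev x m := by
  rw [Red.chi, KummerSeq.gmFn_DSmap]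
  simp only [ev, zmultiplesHom_apply, one_zsmul]

theorem ev_add (x : X ⟶ Red.DS S M) (m m' : M) : ev x (m + m') = ev x m * ev x m' := by
  simp only [ev, ofAdd_add, ← map_mul, MonoidAlgebra.single_mul_single, _root_.mul_one]

theorem ev_zero (x : X ⟶ Red.DS S M) : ev x 0 = 1 := by
  simp only [ev, ofAdd_zero, ← MonoidAlgebra.one_def, map_one]

theorem ev_mul (x y : X ⟶ Red.DS S M) (m : M) : ev (x * y) m = ev x m * ev y m := by
  rw [← gmFn_chi, ← gmFn_chi, ← gmFn_chi, chi_mul, GmPts.gmFn_mul]

theorem ev_one (m : M) : ev (1 : X ⟶ Red.DS S M) m = 1 := by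
  rw [← gmFn_chi, chi_one, GmPts.gmFn_one]

theorem ev_comp (h : X' ⟶ X) (x : X ⟶ Red.DS S M) (m : M) : ev (h ≫ x) m = h.left.appTop.hom (ev x m) := by
  rw [← gmFn_chi, ← gmFn_chi, Category.assoc, GmPts.gmFn_comp]

theorem ev_DSmap (x : X ⟶ Red.DS S M) (ψ : N →+ M) (n : N) : ev (x ≫ Red.DSmap S ψ) n = ev x (ψ n) := by
  rw [ev, KummerSeq.homOf_DSmap]
  simp [ev]

theorem ev_ext {x y : X ⟶ Red.DS S M} (h : ∀ m, ev x m = ev y m) : x = y := by
  have h1 : KummerSeq.homOf x = KummerSeq.homOf y :=
    MonoidAlgebra.ringHom_ext (fun r => RingHom.congr_fun (DSPtsLib.ulift_ringHom_ext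
      ((KummerSeq.homOf x).comp MonoidAlgebra.singleOneRingHom) ((KummerSeq.homOf y).comp MonoidAlgebra.singleOneRingHom)) r)
      fun m => h (Multiplicative.toAdd m)
  have h2 : (x.left ≫ pullback.fst _ _).appTop = (y.left ≫ pullback.fst _ _).appTop :=
    (cancel_epi (Scheme.ΓSpecIso (CommRingCat.of (KummerSeq.CM.{u} M))).inv).1 (CommRingCat.hom_ext h1)
  haveI : IsAffine (Red.diag (ULift.{u} ℤ) M).left := inferInstanceAs (IsAffine (Spec _))
  exact Over.OverMorphism.ext (pullback.hom_ext (ext_of_isAffine h2) ((Over.w x).trans (Over.w y).symm))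

/-- A point with prescribed values. -/
theorem exists_ev (χ : Multiplicative M →* Γ(X.left, ⊤)) :
    ∃ x : X ⟶ Red.DS S M, ∀ m, ev x m = χ (Multiplicative.ofAdd m) := by
  let f : KummerSeq.CM.{u} M →+* Γ(X.left, ⊤) := MonoidAlgebra.liftNCRingHom
    ((Int.castRingHom Γ(X.left, ⊤)).comp (ULift.ringEquiv : ULift.{u} ℤ ≃+* ℤ).toRingHom) χ
    (fun _ _ => Commute.all _ _)
  obtain ⟨x, hx⟩ := KummerSeq.exists_pt (S := S) (T := X) f
  refine ⟨x, fun m => ?_⟩
  rw [ev, hx]
  simp [f, MonoidAlgebra.liftNCRingHom_single]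

/-- The group of points is commutative. -/
theorem DS_mul_comm (x y : X ⟶ Red.DS S M) : x * y = y * x :=
  ev_ext fun m => by rw [ev_mul, ev_mul, _root_.mul_comm]

end Ev

section Affine

variable {B B' : Type u} [CommRing B] [CommRing B']

/-- An affine scheme over `S`. -/
noncomputable abbrev spS (j : Spec (CommRingCat.of B) ⟶ S) : Over S := Over.mk j

/-- The value at a character as an element of the ring. -/
noncomputable def evB {j : Spec (CommRingCat.of B) ⟶ S} (x : spS j ⟶ Red.DS S M) (m : M) : B :=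
  (Scheme.ΓSpecIso (CommRingCat.of B)).hom (ev x m)

theorem evB_ext {j : Spec (CommRingCat.of B) ⟶ S} {x y : spS j ⟶ Red.DS S M} (h : ∀ m, evB x m = evB y m) : x = y :=
  ev_ext fun m => (Scheme.ΓSpecIso (CommRingCat.of B)).commRingCatIsoToRingEquiv.injective (h m)

theorem exists_evB (j : Spec (CommRingCat.of B) ⟶ S) (χ : Multiplicative M →* B) :
    ∃ x : spS j ⟶ Red.DS S M, ∀ m, evB x m = χ (Multiplicative.ofAdd m) := by
  obtain ⟨x, hx⟩ := exists_ev (S := S) (X := spS j)
    (((Scheme.ΓSpecIso (CommRingCat.of B)).inv.hom.toMonoidHom).comp χ)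
  refine ⟨x, fun m => ?_⟩
  rw [evB, hx]
  exact (Scheme.ΓSpecIso (CommRingCat.of B)).inv_hom_id_apply _

theorem evB_comp {j : Spec (CommRingCat.of B) ⟶ S} {j' : Spec (CommRingCat.of B') ⟶ S} (σ : B →+* B')
    (h : Spec.map (CommRingCat.ofHom σ) ≫ j = j') (x : spS j ⟶ Red.DS S M) (m : M) :
    evB ((Over.homMk (Spec.map (CommRingCat.ofHom σ)) h : spS j' ⟶ spS j) ≫ x) m = σ (evB x m) := by
  rw [evB, ev_comp, evB]
  exact congrArg (fun ψ => (ConcreteCategory.hom ψ) (ev x m)) (Scheme.ΓSpecIso_naturality (CommRingCat.ofHom σ))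

end Affine

section Local

variable {T : Over S} (φ : Red.DS S M ⊗ T ⟶ Red.DS S N)

/-- `φ` is induced by `ψ` over points of `T` lying in `V`. -/
def IsInducedOn (ψ : N →+ M) (V : Set T.left) : Prop :=
  ∀ (X : Over S) (x : X ⟶ Red.DS S M) (t : X ⟶ T), Set.range t.left ⊆ V → lift x t ≫ φ = x ≫ Red.DSmap S ψ

theorem coeff_mapDomain_diag {B : Type u} [CommRing B] [DecidableEq M] (P : MonoidAlgebra B (Multiplicative M)) (a b : Multiplicative M) :
    (MonoidAlgebra.mapDomainRingHom B ((MonoidHom.id _).prod (MonoidHom.id _)) P).coeff (a, b) =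
      if a = b then P.coeff a else 0 := by
  induction P using MonoidAlgebra.induction_linear with
  | zero => simp
  | add p q hp hq => simp only [map_add, MonoidAlgebra.coeff_add, Finsupp.add_apply, hp, hq]; split_ifs <;> simp
  | single c r =>
    simp only [MonoidAlgebra.mapDomainRingHom_apply, MonoidAlgebra.mapDomain_single, MonoidAlgebra.coeff_single,
      Finsupp.single_apply, MonoidHom.prod_apply, MonoidHom.id_apply, Prod.mk.injEq]
    by_cases h : a = b
    · subst h; simp
    · rw [if_neg h, if_neg]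
      rintro ⟨rfl, rfl⟩
      exact h rfl

theorem coeff_mapDomain_mul {B : Type u} [CommRing B] (P Q : MonoidAlgebra B (Multiplicative M)) (a b : Multiplicative M) :
    (MonoidAlgebra.mapDomainRingHom B (MonoidHom.inl _ (Multiplicative M)) P *
      MonoidAlgebra.mapDomainRingHom B (MonoidHom.inr (Multiplicative M) _) Q).coeff (a, b) = P.coeff a * Q.coeff b := by
  classical
  induction P using MonoidAlgebra.induction_linear with
  | zero => simp
  | add p q hp hq => simp only [map_add, add_mul, MonoidAlgebra.coeff_add, Finsupp.add_apply, hp, hq]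
  | single c r =>
    induction Q using MonoidAlgebra.induction_linear with
    | zero => simp
    | add p q hp hq => simp only [map_add, mul_add, MonoidAlgebra.coeff_add, Finsupp.add_apply, hp, hq]
    | single d s =>
      simp only [MonoidAlgebra.mapDomainRingHom_apply, MonoidAlgebra.mapDomain_single, MonoidAlgebra.coeff_single,
        MonoidAlgebra.single_mul_single, Finsupp.single_apply, MonoidHom.inl_apply, MonoidHom.inr_apply,
        Prod.mk_mul_mk, Prod.mk.injEq, _root_.mul_one, _root_.one_mul]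
      split_ifs <;> simp_all

/-- A family of homomorphisms is, locally on the parameters, induced by a homomorphism of character groups. -/
theorem exists_isInducedOn [AddGroup.FG N] (hφ : AutFam.IsHomFamily (Red.DS S M) (Red.DS S N) φ) (y : T.left) :
    ∃ (ψ : N →+ M) (V : T.left.Opens), y ∈ V ∧ IsInducedOn φ ψ (V : Set T.left) := by
  classical
  obtain ⟨W, hW, hyW, -⟩ := exists_isAffineOpen_mem_and_subset (x := y) (U := (⊤ : T.left.Opens)) trivial
  let B : Type u := Γ(T.left, W)
  let j : Spec (CommRingCat.of B) ⟶ S := hW.fromSpec ≫ T.hom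
  let t₀ : spS j ⟶ T := Over.homMk hW.fromSpec rfl
  let R : Type u := MonoidAlgebra B (Multiplicative M)
  let jR : Spec (CommRingCat.of R) ⟶ S := Spec.map (CommRingCat.ofHom MonoidAlgebra.singleOneRingHom) ≫ j
  obtain ⟨xu, hxu⟩ := exists_evB jR (MonoidAlgebra.of B (Multiplicative M))
  let tR : spS jR ⟶ T := (Over.homMk (Spec.map (CommRingCat.ofHom MonoidAlgebra.singleOneRingHom)) rfl : spS jR ⟶ spS j) ≫ t₀
  let g : N → R := evB (lift xu tR ≫ φ)
  have key : ∀ {B' : Type u} [CommRing B'] (γ : B →+* B') (j' : Spec (CommRingCat.of B') ⟶ S)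
      (hj : Spec.map (CommRingCat.ofHom γ) ≫ j = j') (x : spS j' ⟶ Red.DS S M) (χ : Multiplicative M →* B'),
      (∀ m, evB x m = χ (Multiplicative.ofAdd m)) → ∀ n,
      evB (lift x ((Over.homMk (Spec.map (CommRingCat.ofHom γ)) hj : spS j' ⟶ spS j) ≫ t₀) ≫ φ) n =
        MonoidAlgebra.liftNCRingHom γ χ (fun _ _ => Commute.all _ _) (g n) := by
    intro B' _ γ j' hj x χ hx n
    let σ : R →+* B' := MonoidAlgebra.liftNCRingHom γ χ (fun _ _ => Commute.all _ _)
    have hσ : σ.comp MonoidAlgebra.singleOneRingHom = γ := by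
      refine RingHom.ext fun r => ?_
      show σ (MonoidAlgebra.single 1 r) = γ r
      refine (MonoidAlgebra.liftNCRingHom_single γ χ _ _ _).trans ?_
      rw [χ.map_one, _root_.mul_one]
    have hjσ : Spec.map (CommRingCat.ofHom σ) ≫ jR = j' := by
      rw [← hj, ← hσ]
      simp only [jR, CommRingCat.ofHom_comp, Spec.map_comp, Category.assoc]
    let h : spS j' ⟶ spS jR := Over.homMk (Spec.map (CommRingCat.ofHom σ)) hjσ
    have h1 : h ≫ xu = x := evB_ext fun m => by
      rw [evB_comp, hxu, hx]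
      refine (MonoidAlgebra.liftNCRingHom_single γ χ _ _ _).trans ?_
      rw [map_one, _root_.one_mul]
    have h2 : h ≫ tR = (Over.homMk (Spec.map (CommRingCat.ofHom γ)) hj : spS j' ⟶ spS j) ≫ t₀ := by
      simp only [tR, ← Category.assoc]
      congr 1
      refine Over.OverMorphism.ext ?_
      show Spec.map (CommRingCat.ofHom σ) ≫ Spec.map _ = Spec.map (CommRingCat.ofHom γ)
      rw [← hσ, CommRingCat.ofHom_comp, Spec.map_comp]
    rw [← h1, ← h2, ← comp_lift, Category.assoc, evB_comp]
  have hg_add : ∀ n n', g (n + n') = g n * g n' := fun n n' => by simp only [g, evB, ev_add, map_mul]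
  have hg_zero : g 0 = 1 := by simp only [g, evB, ev_zero, map_one]
  let R2 : Type u := MonoidAlgebra B (Multiplicative M × Multiplicative M)
  have hmul : ∀ n a b, (if a = b then (g n).coeff a else 0) = (g n).coeff a * (g n).coeff b := by
    intro n a b
    let γ : B →+* R2 := MonoidAlgebra.singleOneRingHom
    let j2 : Spec (CommRingCat.of R2) ⟶ S := Spec.map (CommRingCat.ofHom γ) ≫ j
    let χ : (Multiplicative M →* Multiplicative M × Multiplicative M) → (Multiplicative M →* R2) :=
      fun τ => (MonoidAlgebra.of B _).comp τ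
    obtain ⟨x₁, hx₁⟩ := exists_evB j2 (χ (MonoidHom.inl _ _))
    obtain ⟨x₂, hx₂⟩ := exists_evB j2 (χ (MonoidHom.inr _ _))
    have hlift : ∀ τ, MonoidAlgebra.liftNCRingHom γ (χ τ) (fun _ _ => Commute.all _ _) =
        MonoidAlgebra.mapDomainRingHom B τ := fun τ => by
      refine MonoidAlgebra.ringHom_ext (fun r => ?_) (fun m => ?_)
      · refine (MonoidAlgebra.liftNCRingHom_single γ (χ τ) _ _ _).trans ?_
        rw [map_one, _root_.mul_one]
        exact ((MonoidAlgebra.mapDomain_single (f := τ) (a := 1) (r := r)).trans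
          (congrArg (fun z => MonoidAlgebra.single z r) τ.map_one)).symm
      · refine (MonoidAlgebra.liftNCRingHom_single γ (χ τ) _ _ _).trans ?_
        simp [χ, γ]
        exact (MonoidAlgebra.mapDomain_single ..).symm
    have hx₃ : ∀ m, evB (x₁ * x₂) m = χ ((MonoidHom.id _).prod (MonoidHom.id _)) (Multiplicative.ofAdd m) := fun m => by
      have e : evB (x₁ * x₂) m = evB x₁ m * evB x₂ m := by simp only [evB, ev_mul, map_mul]
      rw [e, hx₁, hx₂]
      refine (MonoidAlgebra.single_mul_single ..).trans ?_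
      simp [χ]
    have h := congrArg (fun z => evB z n)
      (hφ _ x₁ x₂ ((Over.homMk (Spec.map (CommRingCat.ofHom γ)) rfl : spS j2 ⟶ spS j) ≫ t₀))
    beta_reduce at h
    rw [key γ j2 rfl _ _ hx₃, hlift] at h
    rw [show ∀ p q : spS j2 ⟶ Red.DS S N, evB (p * q) n = evB p n * evB q n from
      fun p q => by simp only [evB, ev_mul, map_mul], key γ j2 rfl _ _ hx₁, key γ j2 rfl _ _ hx₂, hlift, hlift] at h
    rw [← coeff_mapDomain_diag, h, coeff_mapDomain_mul]
  have hsum : ∀ n, ∀ p : Ideal B, p.IsPrime → ∃ a, (g n).coeff a ∉ p := by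
    intro n p hp
    by_contra hcon
    push Not at hcon
    let ε : R →+* B := MonoidAlgebra.liftNCRingHom (RingHom.id B) 1 (fun _ _ => Commute.all _ _)
    have h1 : ε (g n) = 1 := by
      have hone : lift (1 : spS j ⟶ Red.DS S M) t₀ ≫ φ = 1 := by
        have := hφ _ (1 : spS j ⟶ Red.DS S M) 1 t₀
        letI hgrp : Group (spS j ⟶ Red.DS S N) := Hom.group
        exact mul_left_cancel ((_root_.mul_one _).trans
          ((congrArg (fun z => lift z t₀ ≫ φ) (_root_.mul_one _)).symm.trans this)).symm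
      have hev1 : ∀ m, evB (1 : spS j ⟶ Red.DS S M) m = (1 : Multiplicative M →* B) (Multiplicative.ofAdd m) :=
        fun m => by simp [evB, ev_one]
      have := key (RingHom.id B) j (by simp) 1 1 hev1 n
      rw [show (Over.homMk (Spec.map (CommRingCat.ofHom (RingHom.id B))) _ : spS j ⟶ spS j) = 𝟙 _ from
        Over.OverMorphism.ext (by simp), Category.id_comp, hone] at this
      exact this.symm.trans (by simp [evB, ev_one])
    have h2 : ∀ P : R, (∀ a, P.coeff a ∈ p) → ε P ∈ p := fun P hP => by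
      rw [show ε P = P.coeff.sum fun a r => r by
        clear hP
        induction P using MonoidAlgebra.induction_linear with
        | zero => simp
        | add q r hq hr => rw [map_add, hq, hr, MonoidAlgebra.coeff_add, Finsupp.sum_add_index'] <;> simp
        | single a r =>
          refine (MonoidAlgebra.liftNCRingHom_single (RingHom.id B) 1 _ a r).trans ?_
          simp]
      exact Ideal.sum_mem _ fun a _ => hP a
    exact hp.ne_top (p.eq_top_iff_one.mpr (h1 ▸ h2 (g n) hcon))
  obtain ⟨F, hF⟩ := AddGroup.fg_def.mp ‹AddGroup.FG N›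
  obtain ⟨p₀, hp₀⟩ := hW.range_fromSpec.ge hyW
  choose a ha using fun n => hsum n p₀.asIdeal p₀.isPrime
  let b : B := ∏ n ∈ F, (g n).coeff (a n)
  have hb : b ∉ p₀.asIdeal := fun h => by
    obtain ⟨n, -, hn⟩ := Ideal.IsPrime.prod_mem_iff.mp h
    exact ha n hn
  let Bb : Type u := Localization.Away b
  let π : R →+* MonoidAlgebra Bb (Multiplicative M) := MonoidAlgebra.mapRingHom _ (algebraMap B Bb)
  have hπ : ∀ P a, (π P).coeff a = algebraMap B Bb (P.coeff a) := fun P a => MonoidAlgebra.coeff_mapRingHom _ _ _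
  have hgen : ∀ n ∈ F, π (g n) = MonoidAlgebra.single (a n) 1 := by
    intro n hn
    have hu : IsUnit (algebraMap B Bb ((g n).coeff (a n))) :=
      isUnit_of_dvd_unit (map_dvd _ (Finset.dvd_prod_of_mem (fun n => (g n).coeff (a n)) hn)) (IsLocalization.Away.algebraMap_isUnit b)
    ext c
    rw [hπ, MonoidAlgebra.coeff_single, Finsupp.single_apply]
    have h := congrArg (algebraMap B Bb) (hmul n (a n) c)
    rw [map_mul] at h
    split_ifs with hc
    · subst hc
      rw [if_pos rfl] at h
      exact (hu.mul_left_cancel ((_root_.mul_one _).trans h)).symm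
    · rw [if_neg hc, map_zero] at h
      exact hu.mul_left_cancel (h.symm.trans (mul_zero _).symm)
  have hall : ∀ n, ∃ m, π (g n) = MonoidAlgebra.single (Multiplicative.ofAdd m) 1 := by
    intro n
    have hn : n ∈ AddSubgroup.closure (F : Set N) := hF ▸ trivial
    induction hn using AddSubgroup.closure_induction with
    | mem n hn => exact ⟨Multiplicative.toAdd (a n), hgen n hn⟩
    | zero => exact ⟨0, by rw [hg_zero, map_one]; rfl⟩
    | add n n' _ _ h h' =>
      obtain ⟨m, hm⟩ := h
      obtain ⟨m', hm'⟩ := h'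
      exact ⟨m + m', by rw [hg_add, map_mul, hm, hm', MonoidAlgebra.single_mul_single, _root_.mul_one, ofAdd_add]⟩
    | neg n _ h =>
      obtain ⟨m, hm⟩ := h
      refine ⟨-m, left_inv_eq_right_inv (a := π (g n)) ?_ ?_⟩
      · rw [← map_mul, ← hg_add, neg_add_cancel, hg_zero, map_one]
      · rw [hm, MonoidAlgebra.single_mul_single, ← ofAdd_add, add_neg_cancel, _root_.mul_one]
        rfl
  choose ψ₀ hψ₀ using hall
  haveI : Nontrivial Bb := by
    have hub : IsUnit (algebraMap B p₀.asIdeal.ResidueField b) :=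
      IsUnit.mk0 _ fun h => hb (Ideal.algebraMap_residueField_eq_zero.mp h)
    exact (IsLocalization.Away.lift (S := Bb) b hub).domain_nontrivial
  let ψ : N →+ M := AddMonoidHom.mk' ψ₀ fun n n' => by
    have h := hψ₀ (n + n')
    rw [hg_add, map_mul, hψ₀ n, hψ₀ n', MonoidAlgebra.single_mul_single, _root_.mul_one, ← ofAdd_add] at h
    exact (Multiplicative.ofAdd.injective (MonoidAlgebra.single_left_injective one_ne_zero h)).symm
  refine ⟨ψ, hW.fromSpec ''ᵁ (PrimeSpectrum.basicOpen b : (Spec Γ(T.left, W)).Opens), ⟨p₀, hb, hp₀⟩, ?_⟩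
  intro X x t ht
  refine Over.OverMorphism.ext (Scheme.Cover.hom_ext X.left.affineCover _ _ fun i => ?_)
  obtain ⟨B', hB'⟩ : ∃ B' : CommRingCat.{u}, X.left.affineCover.X i = Spec B' := ⟨_, rfl⟩
  obtain ⟨iota, hiota⟩ : ∃ iota : Spec B' ⟶ X.left, X.left.affineCover.f i = eqToHom hB' ≫ iota :=
    ⟨eqToHom hB'.symm ≫ X.left.affineCover.f i, by simp⟩
  rw [hiota, Category.assoc, Category.assoc]
  congr 1
  clear hiota hB'
  let j' : Spec (CommRingCat.of B') ⟶ S := iota ≫ X.hom
  let h : spS j' ⟶ X := Over.homMk iota rfl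
  suffices hh : h ≫ lift x t ≫ φ = h ≫ x ≫ Red.DSmap S ψ from congrArg Over.Hom.left hh
  have hrange : Set.range (iota ≫ t.left) ⊆ hW.fromSpec '' ((PrimeSpectrum.basicOpen b : TopologicalSpace.Opens (PrimeSpectrum B)) : Set (PrimeSpectrum B)) := by
    rintro _ ⟨q, rfl⟩
    exact ht ⟨iota q, rfl⟩
  let l := IsOpenImmersion.lift hW.fromSpec (iota ≫ t.left) (hrange.trans (Set.image_subset_range _ _))
  have hl : l ≫ hW.fromSpec = iota ≫ t.left := IsOpenImmersion.lift_fac _ _ _
  let γ : B →+* B' := (Spec.preimage l).hom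
  have hγ : Spec.map (CommRingCat.ofHom γ) = l := Spec.map_preimage l
  have hu : IsUnit (γ b) := by
    by_contra hu
    obtain ⟨q, hq, hbq⟩ := exists_max_ideal_of_mem_nonunits hu
    obtain ⟨q', hq', heq⟩ := hrange ⟨⟨q, hq.isPrime⟩, rfl⟩
    have h2 : l ⟨q, hq.isPrime⟩ = q' := hW.fromSpec.isOpenEmbedding.injective
      (by rw [← Scheme.Hom.comp_apply, hl]; exact heq.symm)
    rw [← h2, ← hγ] at hq'
    exact hq' hbq
  have hj : Spec.map (CommRingCat.ofHom γ) ≫ j = j' := by
    rw [hγ]
    show l ≫ hW.fromSpec ≫ T.hom = iota ≫ X.hom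
    rw [← Category.assoc, hl, Category.assoc, Over.w t]
  have ht' : h ≫ t = (Over.homMk (Spec.map (CommRingCat.ofHom γ)) hj : spS j' ⟶ spS j) ≫ t₀ :=
    Over.OverMorphism.ext (by show iota ≫ t.left = Spec.map _ ≫ hW.fromSpec; rw [hγ, hl])
  let χ : Multiplicative M →* B' :=
    { toFun := fun m => evB (h ≫ x) (Multiplicative.toAdd m)
      map_one' := by simp [evB, ev_zero]
      map_mul' := fun m m' => by simp [evB, ev_add] }
  refine evB_ext fun n => ?_
  rw [← Category.assoc, comp_lift, ht', key γ j' hj (h ≫ x) χ (fun _ => rfl) n, ← Category.assoc]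
  let γ' : Bb →+* B' := IsLocalization.Away.lift b hu
  have hγ' : γ'.comp (algebraMap B Bb) = γ := IsLocalization.Away.lift_comp b hu
  have hfac : MonoidAlgebra.liftNCRingHom γ χ (fun _ _ => Commute.all _ _) =
      (MonoidAlgebra.liftNCRingHom γ' χ (fun _ _ => Commute.all _ _)).comp π := by
    refine MonoidAlgebra.ringHom_ext (fun r => ?_) (fun m => ?_)
    · refine (MonoidAlgebra.liftNCRingHom_single γ χ _ _ _).trans ?_
      simp only [RingHom.comp_apply, π, MonoidAlgebra.mapRingHom_single]
      refine Eq.trans ?_ (MonoidAlgebra.liftNCRingHom_single γ' χ _ _ _).symm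
      rw [← hγ']; rfl
    · refine (MonoidAlgebra.liftNCRingHom_single γ χ _ _ _).trans ?_
      simp only [RingHom.comp_apply, π, MonoidAlgebra.mapRingHom_single]
      refine Eq.trans ?_ (MonoidAlgebra.liftNCRingHom_single γ' χ _ _ _).symm
      simp
  rw [hfac, RingHom.comp_apply, hψ₀]
  refine (MonoidAlgebra.liftNCRingHom_single γ' χ _ _ _).trans ?_
  rw [map_one, _root_.one_mul]
  simp only [evB, ev_DSmap]
  rfl

/-- The inducing homomorphism is unique over a nonempty set of parameters. -/
theorem isInducedOn_unique {ψ ψ' : N →+ M} {V V' : Set T.left} (h : IsInducedOn φ ψ V) (h' : IsInducedOn φ ψ' V')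
    {y : T.left} (hy : y ∈ V) (hy' : y ∈ V') : ψ = ψ' := by
  let K : Type u := IsLocalRing.ResidueField (T.left.presheaf.stalk y)
  let R : Type u := MonoidAlgebra K (Multiplicative M)
  let j : Spec (CommRingCat.of K) ⟶ S := T.left.fromSpecResidueField y ≫ T.hom
  let jR : Spec (CommRingCat.of R) ⟶ S := Spec.map (CommRingCat.ofHom MonoidAlgebra.singleOneRingHom) ≫ j
  obtain ⟨xu, hxu⟩ := exists_evB jR (MonoidAlgebra.of K (Multiplicative M))
  let t : spS jR ⟶ T := Over.homMk (Spec.map (CommRingCat.ofHom MonoidAlgebra.singleOneRingHom) ≫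
    T.left.fromSpecResidueField y) (by simp [jR, j])
  have ht : Set.range t.left ⊆ {y} := by
    rintro _ ⟨q, rfl⟩
    exact (Scheme.range_fromSpecResidueField y).le ⟨_, rfl⟩
  refine AddMonoidHom.ext fun n => ?_
  have h1 := congrArg (fun z => evB z n)
    ((h _ xu t (ht.trans (Set.singleton_subset_iff.2 hy))).symm.trans (h' _ xu t (ht.trans (Set.singleton_subset_iff.2 hy'))))
  simp only [evB, ev_DSmap] at h1
  have h2 := ((hxu (ψ n)).symm.trans h1).trans (hxu (ψ' n))
  exact Multiplicative.ofAdd.injective (MonoidAlgebra.single_left_injective one_ne_zero h2)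

end Local

end Groth.Agent.HomRepLib
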