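import Groth.Agent.HomRepLib.Apply
import Groth.Agent.GrpSchLib.AffineHopf
import Groth.Agent.EtFound.Descent
import Groth.Agent.FpqcDescLib.Closed
import Groth.Agent.SGA1Q.SigmaFinite

/-!
# Finiteness of schemes of homomorphisms between finite groups of multiplicative type
-/

universe u

open CategoryTheory CategoryTheory.Limits MonoidalCategory CartesianMonoidalCategory MonObj GrpObj AlgebraicGeometry

namespace Groth.Agent.HomRepLib

variable {S : Scheme.{u}}

/-- A property local on the target and descending along fpqc morphisms can be checked on an etale covering. -/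
theorem prop_of_etale_cover (P : MorphismProperty Scheme.{u}) [P.IsStableUnderBaseChange] [IsZariskiLocalAtTarget P]
    [P.DescendsAlong (@Surjective ⊓ @Flat ⊓ @QuasiCompact)] {σ : Type u} {U : σ → Scheme.{u}} (f : ∀ s, U s ⟶ S)
    [∀ s, Etale (f s)] (hf : ∀ x : S, ∃ s, x ∈ Set.range (f s)) {B : Scheme.{u}} (i : B ⟶ S)
    (h : ∀ s, P (pullback.snd i (f s))) : P i := by
  let p := Sigma.desc f
  haveI : Etale p := IsZariskiLocalAtSource.sigmaDesc (P := @Etale) inferInstance
  haveI : Surjective p := ⟨fun x => by
    obtain ⟨s, y, rfl⟩ := hf x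
    exact ⟨Sigma.ι U s y, by
      rw [← Scheme.Hom.comp_apply]
      exact congrArg (fun k => k y) (Sigma.ι_desc f s)⟩⟩
  refine (FpqcDescLib.covers_of_isCovering (FpqcDescLib.isCovering_of_lfp p)).descends P i (pullback.snd i p)
    (pullback.fst i p) (IsPullback.of_hasPullback i p).flip ?_
  refine (IsZariskiLocalAtTarget.iff_of_openCover (P := P) (sigmaOpenCover U)).2 fun s => ?_
  show P (pullback.snd (pullback.snd i p) (Sigma.ι U s))
  have H := (IsPullback.of_hasPullback (pullback.snd i p) (Sigma.ι U s)).paste_horiz (IsPullback.of_hasPullback i p)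
  rw [show Sigma.ι U s ≫ p = f s from Sigma.ι_desc f s] at H
  rw [← H.isoPullback_hom_snd, P.cancel_left_of_respectsIso]
  exact h s

/-- The character group of a finite diagonalisable group over a nonempty base is finite. -/
theorem finite_of_isFinite_DS {U : Scheme.{u}} (x : U) (M : Type) [AddCommGroup M]
    [IsFinite (Red.DS U M).hom] : Finite M := by
  let k : Type u := U.residueField x
  let t : Spec (CommRingCat.of k) ⟶ U := U.fromSpecResidueField x
  haveI : IsFinite (Red.bc t (Red.DS U M)).hom :=
    inferInstanceAs (IsFinite (pullback.snd (Red.DS U M).hom t))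
  obtain ⟨e₁⟩ := GrpSchLib.MultTypeBC.bc_DS t M
  obtain ⟨e₂⟩ := GrpSchLib.AffineHopf.nonempty_DS_iso k M
  let e := e₂ ≪≫ e₁.symm
  haveI : IsIso e.hom.hom.hom.left :=
    ⟨e.inv.hom.hom.left, congrArg (fun h => h.hom.hom.left) e.hom_inv_id,
      congrArg (fun h => h.hom.hom.left) e.inv_hom_id⟩
  have h : IsFinite (Spec.map (CommRingCat.ofHom (algebraMap k (MonoidAlgebra k (Multiplicative M))))) := by
    rw [show Spec.map (CommRingCat.ofHom (algebraMap k (MonoidAlgebra k (Multiplicative M)))) =
      e.hom.hom.hom.left ≫ (Red.bc t (Red.DS U M)).hom from (Over.w e.hom.hom.hom).symm]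
    exact MorphismProperty.comp_mem @IsFinite _ _ (inferInstanceAs (IsFinite e.hom.hom.hom.left))
      ‹IsFinite (Red.bc t (Red.DS U M)).hom›
  rw [IsFinite.SpecMap_iff] at h
  haveI : Module.Finite k (MonoidAlgebra k (Multiplicative M)) := RingHom.finite_algebraMap.mp h
  haveI : Finite (Multiplicative M) :=
    Module.Finite.finite_basis (MonoidAlgebra.basis (Multiplicative M) k)
  exact Finite.of_equiv _ Multiplicative.toAdd

/-- A constant scheme with finite index set is finite. -/
theorem isFinite_const (I : Type u) [Finite I] : IsFinite (TwC.const S I).hom :=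
  SGA1Q.isFinite_sigmaDesc _ fun _ => inferInstance

end Groth.Agent.HomRepLib
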