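import Groth.Agent.HomRepLib.Descent
import Groth.Agent.HomRepLib.Split

/-!
# Gluing local representations of a functor of homomorphisms

If the base is covered by flat finitely presented schemes over which the functor of homomorphisms is representable by
schemes which are separated and locally quasi-finite (or affine), it is representable, compatibly with the local data.
-/

universe u

open CategoryTheory CategoryTheory.Limits MonoidalCategory CartesianMonoidalCategory MonObj GrpObj AlgebraicGeometry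
open TopologicalSpace

namespace Groth.Agent.HomRepLib

set_option backward.isDefEq.respectTransparency.types false

variable {S : Scheme.{u}}

set_option maxHeartbeats 400000 in
/-- A constant scheme is separated. -/
theorem isSeparated_const (I : Type u) : IsSeparated (TwC.const S I).hom := by
  let p : (∐ fun _ : I => S) ⟶ S := Sigma.desc fun _ : I => 𝟙 S
  show IsSeparated p
  refine ⟨IsClosedImmersion.of_isPreimmersion (pullback.diagonal p) ?_⟩
  let f₁ := pullback.fst p p
  let f₂ := pullback.snd p p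
  let O : I → Set ↥(∐ fun _ : I => S) := fun ψ => Set.range (Sigma.ι (fun _ : I => S) ψ)
  have hOc : ∀ a, ∃ ψ, a ∈ O ψ := fun a => by
    obtain ⟨⟨ψ, s⟩, hs⟩ := (sigmaMk fun _ : I => S).surjective a
    exact ⟨ψ, s, by rwa [sigmaMk_mk] at hs⟩
  have hOd : ∀ ψ ψ' a, a ∈ O ψ → a ∈ O ψ' → ψ = ψ' := by
    rintro ψ ψ' a ⟨s, hs⟩ ⟨s', hs'⟩
    exact (Sigma.mk.inj ((sigmaι_eq_iff _ _ _ _ _).mp (hs.trans hs'.symm))).1
  have hrange : Set.range (pullback.diagonal p) = (⋃ q : {q : I × I // q.1 ≠ q.2}, f₁ ⁻¹' O q.1.1 ∩ f₂ ⁻¹' O q.1.2)ᶜ := by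
    ext z
    simp only [Set.mem_compl_iff, Set.mem_iUnion, Set.mem_inter_iff, Set.mem_preimage, not_exists]
    refine ⟨?_, fun hz => ?_⟩
    · rintro ⟨a, rfl⟩ ⟨⟨ψ, ψ'⟩, hne⟩ ⟨h1, h2⟩
      have e1 : f₁ (pullback.diagonal p a) = a := by
        rw [← Scheme.Hom.comp_apply, pullback.diagonal_fst]; rfl
      have e2 : f₂ (pullback.diagonal p a) = a := by
        rw [← Scheme.Hom.comp_apply, pullback.diagonal_snd]; rfl
      rw [e1] at h1; rw [e2] at h2
      exact hne (hOd _ _ a h1 h2)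
    · obtain ⟨ψ, hψ⟩ := hOc (f₁ z)
      obtain ⟨ψ', hψ'⟩ := hOc (f₂ z)
      have hψψ : ψ = ψ' := by_contra fun hne => hz ⟨(ψ, ψ'), hne⟩ ⟨hψ, hψ'⟩
      subst hψψ
      let x := (pullback p p).fromSpecResidueField z
      have key : ∀ g : pullback p p ⟶ ∐ fun _ : I => S, g z ∈ O ψ →
          x ≫ g = (x ≫ g ≫ p) ≫ Sigma.ι (fun _ : I => S) ψ := by
        intro g hg
        have hr : Set.range (x ≫ g) ⊆ Set.range (Sigma.ι (fun _ : I => S) ψ) := by
          rintro _ ⟨q, rfl⟩
          rw [Scheme.Hom.comp_apply, (Scheme.range_fromSpecResidueField z).le ⟨q, rfl⟩]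
          exact hg
        have e := IsOpenImmersion.lift_fac _ (x ≫ g) hr
        have e' : IsOpenImmersion.lift _ (x ≫ g) hr = x ≫ g ≫ p := by
          have h := congrArg (· ≫ p) e
          have hp : Sigma.ι (fun _ : I => S) ψ ≫ p = 𝟙 S := Sigma.ι_desc (fun _ : I => 𝟙 S) ψ
          simpa only [Category.assoc, hp, Category.comp_id] using h
        rw [← e', e]
      have hx : x ≫ f₁ = x ≫ f₂ := by
        rw [key f₁ hψ, key f₂ hψ', show f₁ ≫ p = f₂ ≫ p from pullback.condition]
      have hd : (x ≫ f₁) ≫ pullback.diagonal p = x := pullback.hom_ext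
        (by rw [Category.assoc, pullback.diagonal_fst, Category.comp_id])
        (by rw [Category.assoc, pullback.diagonal_snd, Category.comp_id, hx])
      obtain ⟨q, hq⟩ := (Scheme.range_fromSpecResidueField z).ge rfl
      exact ⟨(x ≫ f₁) q, by rw [← Scheme.Hom.comp_apply, hd]; exact hq⟩
  rw [hrange, isClosed_compl_iff]
  refine isOpen_iUnion fun q => IsOpen.inter ?_ ?_
  · exact (Scheme.Hom.opensRange (Sigma.ι (fun _ : I => S) q.1.1)).2.preimage f₁.continuous
  · exact (Scheme.Hom.opensRange (Sigma.ι (fun _ : I => S) q.1.2)).2.preimage f₂.continuous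

/-- A constant scheme is etale. -/
theorem etale_const (I : Type u) : Etale (TwC.const S I).hom :=
  IsZariskiLocalAtSource.sigmaDesc (P := @Etale) fun _ => inferInstance

section Glue

variable {G G' : Over S} [GrpObj G] [GrpObj G'] {σ : Type u} {U : σ → Scheme.{u}} (f : ∀ s, U s ⟶ S)
  (A : ∀ s, Over (U s)) (υ : ∀ s, Red.bc (f s) G ⊗ A s ⟶ Red.bc (f s) G')

/-- The disjoint union of the covering schemes. -/
noncomputable abbrev coverObj : Over S := Over.mk (Sigma.desc f)

/-- The disjoint union of the local representing schemes. -/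
noncomputable abbrev localObj : Over S := Over.mk (Sigma.desc fun s => (A s).hom ≫ f s)

/-- The structure map of the disjoint union of the local representing schemes. -/
noncomputable abbrev localMap : localObj f A ⟶ coverObj f :=
  Over.homMk (Limits.Sigma.map fun s => (A s).hom) (Sigma.hom_ext _ _ fun s => by simp)

/-- The inclusion of a local representing scheme. -/
noncomputable abbrev localι (s : σ) : (Over.map (f s)).obj (A s) ⟶ localObj f A :=
  Over.homMk (Sigma.ι (fun s => (A s).left) s) (Sigma.ι_desc _ _)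

/-- The inclusion of a covering scheme. -/
noncomputable abbrev coverι (s : σ) : Over.mk (f s) ⟶ coverObj f :=
  Over.homMk (Sigma.ι U s) (Sigma.ι_desc _ _)

theorem localι_localMap (s : σ) : localι f A s ≫ localMap f A =
    (Over.homMk (A s).hom rfl : (Over.map (f s)).obj (A s) ⟶ Over.mk (f s)) ≫ coverι f s :=
  Over.OverMorphism.ext (Sigma.ι_map (f := fun s => (A s).left) (g := U) (fun s => (A s).hom) s)

theorem isPullback_localι (s : σ) :
    IsPullback (A s).hom (Sigma.ι (fun s => (A s).left) s) (Sigma.ι U s) (Limits.Sigma.map fun s => (A s).hom) := by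
  refine IsOpenImmersion.isPullback _ _ _ _ (Sigma.ι_map _ _) (Opens.ext (Set.ext fun a => ⟨?_, ?_⟩))
  · rintro ⟨x, hx⟩
    obtain ⟨⟨s', w⟩, rfl⟩ := (sigmaMk fun s => (A s).left).surjective a
    rw [sigmaMk_mk] at hx ⊢
    rw [← Scheme.Hom.comp_apply, Sigma.ι_map, Scheme.Hom.comp_apply] at hx
    obtain rfl := (Sigma.mk.inj ((sigmaι_eq_iff _ _ _ _ _).mp hx)).1
    exact ⟨w, rfl⟩
  · rintro ⟨w, rfl⟩
    exact ⟨(A s).hom w, by rw [← Scheme.Hom.comp_apply, ← Scheme.Hom.comp_apply, Sigma.ι_map]⟩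

/-- A property local on the target passes to the disjoint union of the local representing schemes. -/
theorem prop_localMap (P : MorphismProperty Scheme.{u}) [IsZariskiLocalAtTarget P] (h : ∀ s, P (A s).hom) :
    P (Limits.Sigma.map fun s => (A s).hom) := by
  refine (IsZariskiLocalAtTarget.iff_of_openCover (P := P) (sigmaOpenCover U)).2 fun s => ?_
  show P (pullback.snd (Limits.Sigma.map fun s => (A s).hom) (Sigma.ι U s))
  rw [← (isPullback_localι A s).flip.isoPullback_inv_snd, P.cancel_left_of_respectsIso]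
  exact h s

/-- The disjoint union of local universal families is universal over the covering. -/
theorem exists_univ (hυ : ∀ s, AutFam.RepresentsHom (Red.bc (f s) G) (Red.bc (f s) G') (A s) (υ s)) :
    ∃ w : G ⊗ localObj f A ⟶ G', AutFam.IsHomFamily G G' w ∧
      (∀ s, toBc (f s) ((G ◁ localι f A s) ≫ w) = υ s) ∧
      ∀ (T : Over S) (t : T ⟶ coverObj f) (φ : G ⊗ T ⟶ G'), AutFam.IsHomFamily G G' φ →
        ∃! a : T ⟶ localObj f A, a ≫ localMap f A = t ∧ (G ◁ a) ≫ w = φ := by
  classical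
  choose w' hw' using fun s => (toBc_bijective (f s)).surjective (υ s)
  have hw'fam : ∀ s, AutFam.IsHomFamily G G' (w' s) := fun s => (isHomFamily_toBc (f s) _).1 ((hw' s).symm ▸ (hυ s).1)
  have huniv' : ∀ s (T : Over S) (t : T ⟶ Over.mk (f s)) (φ : G ⊗ T ⟶ G'), AutFam.IsHomFamily G G' φ →
      ∃! a : T ⟶ (Over.map (f s)).obj (A s),
        a ≫ (Over.homMk (A s).hom rfl : (Over.map (f s)).obj (A s) ⟶ Over.mk (f s)) = t ∧ (G ◁ a) ≫ w' s = φ :=
    fun s T t φ hφ => by
      exact (local_of_bc (f s) (hυ s) (hw' s)).2 T t φ hφ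
  let W := localObj f A
  let O : σ → W.left.Opens := fun s => (Sigma.ι (fun s => (A s).left) s).opensRange
  let O' : σ → (coverObj f).left.Opens := fun s => (Sigma.ι U s).opensRange
  have hO'c : ∀ a, ∃ s, a ∈ O' s := fun a => by
    obtain ⟨⟨s, x⟩, hs⟩ := (sigmaMk U).surjective a
    exact ⟨s, x, by rwa [sigmaMk_mk] at hs⟩
  have hO'd : ∀ s s' a, a ∈ O' s → a ∈ O' s' → s = s' := by
    rintro s s' a ⟨x, hx⟩ ⟨x', hx'⟩
    exact (Sigma.mk.inj ((sigmaι_eq_iff _ _ _ _ _).mp (hx.trans hx'.symm))).1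
  have hOc : ∀ a, ∃ s, a ∈ O s := fun a => by
    obtain ⟨⟨s, x⟩, hs⟩ := (sigmaMk fun s => (A s).left).surjective a
    exact ⟨s, x, by rwa [sigmaMk_mk] at hs⟩
  have hOd : ∀ s s' a, a ∈ O s → a ∈ O s' → s = s' := by
    rintro s s' a ⟨x, hx⟩ ⟨x', hx'⟩
    exact (Sigma.mk.inj ((sigmaι_eq_iff _ _ _ _ _).mp (hx.trans hx'.symm))).1
  haveI : ∀ s, Mono (localι f A s) := fun s => by
    haveI : Mono ((Over.forget S).map (localι f A s)) :=
      inferInstanceAs (Mono (Sigma.ι (fun s => (A s).left) s))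
    exact (Over.forget S).mono_of_mono_map this
  have hfac : ∀ (s : σ) {X : Over S} (b : X ⟶ W), Set.range b.left ⊆ (O s : Set W.left) →
      ∃ b' : X ⟶ (Over.map (f s)).obj (A s), b' ≫ localι f A s = b := by
    intro s X b hb
    refine ⟨Over.homMk (IsOpenImmersion.lift (Sigma.ι (fun s => (A s).left) s) b.left hb) ?_,
      Over.OverMorphism.ext (IsOpenImmersion.lift_fac _ _ _)⟩
    show IsOpenImmersion.lift _ b.left hb ≫ (A s).hom ≫ f s = X.hom
    rw [← Over.w b]
    conv_rhs => rw [← IsOpenImmersion.lift_fac (Sigma.ι (fun s => (A s).left) s) b.left hb, Category.assoc]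
    congr 1
    exact (Sigma.ι_desc (fun s => (A s).hom ≫ f s) s).symm
  have hpc : ∀ s, ∃ k : piece (G ⊗ W) ((snd G W).left ⁻¹ᵁ O s) ⟶ (Over.map (f s)).obj (A s),
      k ≫ localι f A s = inc _ _ ≫ snd G W := fun s => hfac s _ (by rintro _ ⟨z, rfl⟩; exact z.2)
  choose k hk using hpc
  obtain ⟨w, hw⟩ := exists_glue (X := G ⊗ W) (fun s => (snd G W).left ⁻¹ᵁ O s) (fun z => hOc _)
    (fun s s' z h h' => hOd s s' _ h h') (fun s => lift (inc _ _ ≫ fst G W) (k s) ≫ w' s)
  have hwpt : ∀ (s : σ) {X : Over S} (x : X ⟶ G) (b : X ⟶ (Over.map (f s)).obj (A s)),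
      lift x (b ≫ localι f A s) ≫ w = lift x b ≫ w' s := by
    intro s X x b
    obtain ⟨l, hl⟩ := exists_fac_inc ((snd G W).left ⁻¹ᵁ O s) (lift x (b ≫ localι f A s)) (by
      rintro _ ⟨z, rfl⟩
      show (snd G W).left ((lift x (b ≫ localι f A s)).left z) ∈ O s
      rw [← Scheme.Hom.comp_apply, ← Over.comp_left, lift_snd]
      exact ⟨_, (Scheme.Hom.comp_apply _ _ z).symm⟩)
    have hlk : l ≫ k s = b := (cancel_mono (localι f A s)).1 (by
      rw [Category.assoc, hk, ← Category.assoc, hl, lift_snd])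
    conv_lhs => rw [← hl, Category.assoc, hw, comp_lift_assoc, hlk, ← Category.assoc, hl, lift_fst]
  have hwfam : AutFam.IsHomFamily G G' w := by
    intro X g₁ g₂ t
    refine hom_ext_pieces (fun s => t.left ⁻¹ᵁ O s) (fun z => hOc _) fun s => ?_
    obtain ⟨b, hb⟩ := hfac s (inc X (t.left ⁻¹ᵁ O s) ≫ t) (by rintro _ ⟨z, rfl⟩; exact z.2)
    rw [MonObj.comp_mul]
    simp only [← Category.assoc, comp_lift]
    rw [← hb, hwpt, hwpt, hwpt, MonObj.comp_mul]
    exact hw'fam s _ _ _ _
  have hwres : ∀ s, (G ◁ localι f A s) ≫ w = w' s := fun s => by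
    rw [← Category.id_comp ((G ◁ localι f A s) ≫ w), ← Category.id_comp (w' s), ← lift_fst_snd,
      lift_whiskerLeft_assoc, hwpt]
  refine ⟨w, hwfam, fun s => by rw [hwres]; exact hw' s, fun T t φ hφ => ?_⟩
  have hpiece : ∀ s, ∃ ts : piece T (t.left ⁻¹ᵁ O' s) ⟶ Over.mk (f s), ts ≫ coverι f s = inc T _ ≫ t := fun s => by
    have hb : Set.range (inc T (t.left ⁻¹ᵁ O' s) ≫ t).left ⊆ (O' s : Set (coverObj f).left) := by
      rintro _ ⟨z, rfl⟩; exact z.2
    refine ⟨Over.homMk (IsOpenImmersion.lift (Sigma.ι U s) (inc T (t.left ⁻¹ᵁ O' s) ≫ t).left hb) ?_,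
      Over.OverMorphism.ext (IsOpenImmersion.lift_fac _ _ _)⟩
    show IsOpenImmersion.lift _ _ hb ≫ f s = (piece T (t.left ⁻¹ᵁ O' s)).hom
    rw [← Over.w (inc T (t.left ⁻¹ᵁ O' s) ≫ t)]
    conv_rhs => rw [← IsOpenImmersion.lift_fac (Sigma.ι U s) (inc T (t.left ⁻¹ᵁ O' s) ≫ t).left hb, Category.assoc]
    congr 1
    exact (Sigma.ι_desc _ _).symm
  choose ts hts using hpiece
  choose as has hasu using fun s => huniv' s _ (ts s) _ (isHomFamily_comp hφ (inc T (t.left ⁻¹ᵁ O' s)))
  obtain ⟨a, ha⟩ := exists_glue (X := T) (fun s => t.left ⁻¹ᵁ O' s) (fun z => hO'c _)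
    (fun s s' z h h' => hO'd s s' _ h h') (fun s => as s ≫ localι f A s)
  refine ⟨a, ⟨?_, ?_⟩, fun a' ha' => ?_⟩
  · refine hom_ext_pieces (fun s => t.left ⁻¹ᵁ O' s) (fun z => hO'c _) fun s => ?_
    rw [← Category.assoc, ha, Category.assoc, localι_localMap, ← Category.assoc, (has s).1, hts]
  · refine hom_ext_pieces (fun s => (snd G T).left ⁻¹ᵁ (t.left ⁻¹ᵁ O' s)) (fun z => hO'c _) fun s => ?_
    let h := inc (G ⊗ T) ((snd G T).left ⁻¹ᵁ (t.left ⁻¹ᵁ O' s))
    obtain ⟨l, hl⟩ := exists_fac_inc (t.left ⁻¹ᵁ O' s) (h ≫ snd G T) (by rintro _ ⟨z, rfl⟩; exact z.2)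
    have e : h = lift (h ≫ fst G T) (h ≫ snd G T) := by rw [← comp_lift, lift_fst_snd, Category.comp_id]
    show h ≫ (G ◁ a) ≫ w = h ≫ φ
    conv_rhs => rw [e, ← hl, ← lift_whiskerLeft_assoc, ← (has s).2, lift_whiskerLeft_assoc]
    conv_lhs => rw [e, lift_whiskerLeft_assoc, ← hl, Category.assoc, ha, ← Category.assoc, hwpt]
  · obtain ⟨ha1, ha2⟩ := ha'
    refine hom_ext_pieces (fun s => t.left ⁻¹ᵁ O' s) (fun z => hO'c _) fun s => ?_
    obtain ⟨b, hb⟩ := hfac s (inc T (t.left ⁻¹ᵁ O' s) ≫ a') (by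
      rintro _ ⟨z, rfl⟩
      obtain ⟨⟨s', x⟩, hx⟩ := (sigmaMk fun s => (A s).left).surjective ((inc T (t.left ⁻¹ᵁ O' s) ≫ a').left z)
      rw [sigmaMk_mk] at hx
      have h1 : t.left ((inc T (t.left ⁻¹ᵁ O' s)).left z) ∈ O' s := z.2
      have h2 : (localMap f A).left (a'.left ((inc T (t.left ⁻¹ᵁ O' s)).left z)) ∈ O' s := by
        rw [← Scheme.Hom.comp_apply, ← Over.comp_left, ha1]; exact h1
      rw [Over.comp_left, Scheme.Hom.comp_apply] at hx
      rw [← hx] at h2
      obtain rfl : s' = s := hO'd s' s _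
        ⟨(A s').hom x, by
          rw [← Scheme.Hom.comp_apply, ← Scheme.Hom.comp_apply]
          exact congrArg (fun k => k x)
            (Sigma.ι_map (f := fun s => (A s).left) (g := U) (fun s => (A s).hom) s').symm⟩ h2
      exact ⟨x, hx⟩)
    have hb' : b = as s := hasu s b ⟨by
      haveI : Mono (coverι f s) := by
        haveI : Mono ((Over.forget S).map (coverι f s)) := inferInstanceAs (Mono (Sigma.ι U s))
        exact (Over.forget S).mono_of_mono_map this
      rw [← cancel_mono (coverι f s), hts, Category.assoc, ← localι_localMap, ← Category.assoc, hb, Category.assoc, ha1],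
      by rw [← hwres, ← MonoidalCategory.whiskerLeft_comp_assoc, hb, MonoidalCategory.whiskerLeft_comp, Category.assoc, ha2]⟩
    rw [ha, ← hb, hb']

end Glue

end Groth.Agent.HomRepLib
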