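import Groth.Agent.HomRepLib.LocalRep
import Mathlib.GroupTheory.Abelianization.Defs

/-!
# The characters of a constant group

The characters of the constant group on `M` are represented by the diagonalisable group on the abelianisation of `M`,
the character `x` taking the value `χ_m(x)` on the piece indexed by `m`.
-/

universe u

open CategoryTheory CategoryTheory.Limits MonoidalCategory CartesianMonoidalCategory MonObj GrpObj AlgebraicGeometry
open TopologicalSpace

namespace Groth.Agent.HomRepLib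

set_option backward.isDefEq.respectTransparency.types false
set_option maxHeartbeats 400000

variable {S : Scheme.{u}}

theorem Gm_pt_ext {T : Over S} {a b : T ⟶ Red.Gm S} (h : Red.gmFn a = Red.gmFn b) : a = b :=
  GmPts.gmFn_injective h

/-- The characters of a constant group are represented by a diagonalisable group. -/
theorem exists_representsHom_const (R : Over S) [GrpObj R] (M : Type) [Group M] (e : R ≅ TwC.const S M)
    (he : TwC.IsConstGrp M R e) :
    ∃ υ : R ⊗ Red.DS S (Additive (Abelianization M)) ⟶ Red.Gm S,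
      AutFam.RepresentsHom R (Red.Gm S) (Red.DS S (Additive (Abelianization M))) υ ∧
      ∀ (X : Over S) (r : X ⟶ R) (a b : X ⟶ Red.DS S (Additive (Abelianization M))),
        lift r (a * b) ≫ υ = (lift r a ≫ υ) * (lift r b ≫ υ) := by
  classical
  let A := Additive (Abelianization M)
  let D : Over S := Red.DS S A
  let q : M → A := fun m => Additive.ofMul (Abelianization.of m)
  let C : Over S := TwC.const S M
  let O : ULift.{u} M → C.left.Opens := fun m => (Sigma.ι (fun _ : M => S) m.down).opensRange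
  have hOc : ∀ a : C.left, ∃ m, a ∈ O m := fun a => by
    obtain ⟨m, s, hs⟩ := (sigmaOpenCover fun _ : M => S).exists_eq a
    exact ⟨⟨m⟩, s, hs⟩
  have hOd : ∀ m n a, a ∈ O m → a ∈ O n → m = n := by
    rintro m n a ⟨s, hs⟩ ⟨s', hs'⟩
    exact ULift.down_injective (Sigma.mk.inj ((sigmaι_eq_iff _ _ _ _ _).mp (hs.trans hs'.symm))).1
  let p : M → (𝟙_ (Over S) ⟶ R) := fun m => TwC.pt S M m ≫ e.inv
  -- a point of the constant group landing in one piece is constant
  have hconst : ∀ (X : Over S) (r : X ⟶ R) (m : M), Set.range (r ≫ e.hom).left ⊆ (O ⟨m⟩ : Set C.left) →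
      r = toUnit X ≫ p m := by
    intro X r m hr
    have hl := IsOpenImmersion.lift_fac (Sigma.ι (fun _ : M => S) m) (r ≫ e.hom).left hr
    have hl' : IsOpenImmersion.lift (Sigma.ι (fun _ : M => S) m) (r ≫ e.hom).left hr = X.hom := by
      have h := congrArg (· ≫ C.hom) hl
      have hp : Sigma.ι (fun _ : M => S) m ≫ C.hom = 𝟙 S := Sigma.ι_desc (fun _ : M => 𝟙 S) m
      simp only [Category.assoc, hp, Category.comp_id] at h
      exact h.trans (Over.w (r ≫ e.hom))
    have h1 : r ≫ e.hom = toUnit X ≫ TwC.pt S M m := Over.OverMorphism.ext (by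
      rw [← hl, hl']
      exact congrArg (· ≫ Sigma.ι (fun _ : M => S) m) (Over.w (toUnit X)).symm)
    rw [show p m = TwC.pt S M m ≫ e.inv from rfl, ← Category.assoc, ← h1, Category.assoc, Iso.hom_inv_id,
      Category.comp_id]
  let P : ULift.{u} M → (R ⊗ D).left.Opens := fun m => (fst R D ≫ e.hom).left ⁻¹ᵁ O m
  obtain ⟨υ, hυ⟩ := exists_glue (X := R ⊗ D) P (fun z => hOc _) (fun m n z h h' => hOd m n _ h h')
    (fun m => inc (R ⊗ D) (P m) ≫ snd R D ≫ Red.chi S (q m.down))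
  have hval : ∀ (X : Over S) (d : X ⟶ D) (m : M), lift (toUnit X ≫ p m) d ≫ υ = d ≫ Red.chi S (q m) := by
    intro X d m
    obtain ⟨l, hl⟩ := exists_fac_inc (P ⟨m⟩) (lift (toUnit X ≫ p m) d) (by
      rintro _ ⟨z, rfl⟩
      show (fst R D ≫ e.hom).left ((lift (toUnit X ≫ p m) d).left z) ∈ O ⟨m⟩
      rw [← Scheme.Hom.comp_apply, ← Over.comp_left, lift_fst_assoc, Category.assoc, Category.assoc,
        Iso.inv_hom_id, Category.comp_id, Over.comp_left, Scheme.Hom.comp_apply]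
      exact ⟨_, rfl⟩)
    rw [← hl, Category.assoc, hυ, ← Category.assoc, hl, lift_snd_assoc]
  -- the pieces on which two points are constant
  have hpieces : ∀ (X : Over S) (r : X ⟶ R) (κ : ULift.{u} M),
      inc X ((r ≫ e.hom).left ⁻¹ᵁ O κ) ≫ r = toUnit _ ≫ p κ.down := fun X r κ => hconst _ _ _ (by
    rintro _ ⟨z, rfl⟩
    exact z.2)
  have hchi : ∀ {X : Over S} (d : X ⟶ D) (m n : M),
      (d ≫ Red.chi S (q m)) * (d ≫ Red.chi S (q n)) = d ≫ Red.chi S (q (m * n)) := by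
    intro X d m n
    refine Gm_pt_ext ?_
    rw [GmPts.gmFn_mul, gmFn_chi, gmFn_chi, gmFn_chi, show q (m * n) = q m + q n by simp [q], ev_add]
  have hmulp : ∀ (X : Over S) (m n : M), (toUnit X ≫ p m) * (toUnit X ≫ p n) = toUnit X ≫ p (m * n) := by
    intro X m n
    rw [← MonObj.comp_mul]
    exact congrArg (toUnit X ≫ ·) (he m n)
  have hfam : AutFam.IsHomFamily R (Red.Gm S) υ := by
    intro X g₁ g₂ t
    refine hom_ext_pieces (fun κ : ULift.{u} M × ULift.{u} M =>
      (g₁ ≫ e.hom).left ⁻¹ᵁ O κ.1 ⊓ (g₂ ≫ e.hom).left ⁻¹ᵁ O κ.2)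
      (fun z => ?_) fun κ => ?_
    · obtain ⟨m, hm⟩ := hOc ((g₁ ≫ e.hom).left z)
      obtain ⟨n, hn⟩ := hOc ((g₂ ≫ e.hom).left z)
      exact ⟨(m, n), hm, hn⟩
    · let i := inc X ((g₁ ≫ e.hom).left ⁻¹ᵁ O κ.1 ⊓ (g₂ ≫ e.hom).left ⁻¹ᵁ O κ.2)
      have h1 : i ≫ g₁ = toUnit _ ≫ p κ.1.down := hconst _ _ _ (by
        rintro _ ⟨z, rfl⟩
        exact z.2.1)
      have h2 : i ≫ g₂ = toUnit _ ≫ p κ.2.down := hconst _ _ _ (by
        rintro _ ⟨z, rfl⟩
        exact z.2.2)
      show i ≫ _ = i ≫ _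
      simp only [MonObj.comp_mul, ← Category.assoc, comp_lift]
      rw [h1, h2, hmulp, hval, hval, hval, hchi]
  have hmul : ∀ (X : Over S) (r : X ⟶ R) (a b : X ⟶ D),
      lift r (a * b) ≫ υ = (lift r a ≫ υ) * (lift r b ≫ υ) := by
    intro X r a b
    refine hom_ext_pieces (fun κ => (r ≫ e.hom).left ⁻¹ᵁ O κ) (fun z => hOc _) fun κ => ?_
    simp only [MonObj.comp_mul, ← Category.assoc, comp_lift]
    rw [hpieces, hval, hval, hval, chi_mul]
  refine ⟨υ, ⟨hfam, fun T φ hφ => ?_⟩, hmul⟩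
  let val : M →* (T ⟶ Red.Gm S) := MonoidHom.mk' (fun m => lift (toUnit T ≫ p m) (𝟙 T) ≫ φ) fun m n => by
    show _ = (lift (toUnit T ≫ p m) (𝟙 T) ≫ φ) * (lift (toUnit T ≫ p n) (𝟙 T) ≫ φ)
    rw [← hφ T _ _ _, hmulp]
  let χ₀ : M →* (Γ(T.left, ⊤))ˣ := (GmPts.equiv T).toMonoidHom.comp val
  let χ : Multiplicative A →* Γ(T.left, ⊤) :=
    { toFun := fun a => ((Abelianization.lift χ₀ (Additive.toMul (Multiplicative.toAdd a))) : Γ(T.left, ⊤)ˣ).val
      map_one' := congrArg Units.val (map_one (Abelianization.lift χ₀))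
      map_mul' := fun a b => congrArg Units.val (map_mul (Abelianization.lift χ₀) _ _) }
  obtain ⟨d, hd⟩ := exists_ev (X := T) (S := S) χ
  have hdm : ∀ m, d ≫ Red.chi S (q m) = val m := fun m => Gm_pt_ext (by
    rw [gmFn_chi, hd]
    rfl)
  refine ⟨d, ?_, fun d' hd' => ev_ext fun a => ?_⟩
  · show (R ◁ d) ≫ υ = φ
    refine hom_ext_pieces (fun κ => (fst R T ≫ e.hom).left ⁻¹ᵁ O κ) (fun z => hOc _) fun κ => ?_
    let i := inc (R ⊗ T) ((fst R T ≫ e.hom).left ⁻¹ᵁ O κ)
    have h1 : i ≫ fst R T = toUnit _ ≫ p κ.down := hpieces _ _ _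
    have h2 : i = lift (i ≫ fst R T) (i ≫ snd R T) := (lift_comp_fst_snd i).symm
    show i ≫ _ = i ≫ _
    rw [h2, h1, lift_whiskerLeft_assoc, hval, Category.assoc, Category.assoc, hdm]
    show (i ≫ snd R T) ≫ lift (toUnit T ≫ p κ.down) (𝟙 T) ≫ φ = _
    rw [comp_lift_assoc, Category.comp_id, ← Category.assoc, toUnit_unique ((i ≫ snd R T) ≫ toUnit T) (toUnit _)]
  · obtain ⟨m, hm⟩ : ∃ m, q m = a := by
      obtain ⟨m, hm⟩ := Quotient.exists_rep (Additive.toMul a)
      exact ⟨m, hm⟩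
    have h := congrArg (lift (toUnit T ≫ p m) (𝟙 T) ≫ ·) (show (R ◁ d') ≫ υ = φ from hd')
    simp only [lift_whiskerLeft_assoc, Category.id_comp, hval] at h
    rw [← hm, ← gmFn_chi, ← gmFn_chi, hdm]
    exact congrArg Red.gmFn h

end Groth.Agent.HomRepLib
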