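import Groth.Agent.HomRepLib.Apply
import Groth.Agent.HomRepLib.Fpqc
import Groth.Agent.HomRepLib.ConstDual

/-!
# The characters of a twisted constant group

The characters of a group which is fpqc locally constant are represented by a group of multiplicative type.
-/

universe u

open CategoryTheory CategoryTheory.Limits MonoidalCategory CartesianMonoidalCategory MonObj GrpObj AlgebraicGeometry
open Groth.Agent.DSPtsLib

namespace Groth.Agent.HomRepLib

set_option backward.isDefEq.respectTransparency.types false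
set_option maxHeartbeats 800000

variable {S : Scheme.{u}}

theorem isAffineHom_DS (U : Scheme.{u}) (M : Type) [AddCommGroup M] : IsAffineHom (Red.DS U M).hom :=
  MorphismProperty.pullback_snd (P := @IsAffineHom) _ _
    (by haveI : IsAffine (Red.diag (ULift.{u} ℤ) M).left := inferInstanceAs (IsAffine (Spec _)); infer_instance)

/-- The local representations of a representable functor of characters compare with the base change. -/
theorem exists_bc_iso {H A : Over S} [GrpObj H] [GrpObj A] {υ : H ⊗ A ⟶ Red.Gm S}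
    (hA : AutFam.RepresentsHom H (Red.Gm S) A υ)
    (hmul : ∀ (X : Over S) (a b : X ⟶ A), (H ◁ (a * b)) ≫ υ = ((H ◁ a) ≫ υ) * ((H ◁ b) ≫ υ))
    {U : Scheme.{u}} (f : U ⟶ S) {D : Over U} [GrpObj D] {υ' : Red.bc f H ⊗ D ⟶ Red.bc f (Red.Gm S)}
    (hD : AutFam.RepresentsHom (Red.bc f H) (Red.bc f (Red.Gm S)) D υ')
    (hmul' : ∀ (X : Over U) (a b : X ⟶ D),
      (Red.bc f H ◁ (a * b)) ≫ υ' = ((Red.bc f H ◁ a) ≫ υ') * ((Red.bc f H ◁ b) ≫ υ')) :
    Nonempty (Grp.mk (Red.bc f A) ≅ Grp.mk D) := by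
  obtain ⟨w, hw⟩ := (toBc_bijective f).surjective υ'
  obtain ⟨a, ha, -⟩ := hA.2 _ w ((isHomFamily_toBc f w).1 (hw ▸ hD.1))
  obtain ⟨g, hg⟩ := (theta_bijective f).surjective a
  have hgυ : toBc f ((H ◁ theta f g) ≫ υ) = υ' := by rw [hg, ← hw]; exact congrArg _ ha
  let υA := toBc f ((H ◁ theta f (𝟙 (Red.bc f A))) ≫ υ)
  have hnat : ∀ {X : Over U} (x : X ⟶ Red.bc f A),
      (Red.bc f H ◁ x) ≫ υA = toBc f ((H ◁ theta f x) ≫ υ) := fun x => by
    rw [← toBc_natural, ← MonoidalCategory.whiskerLeft_comp_assoc, ← theta_comp, Category.comp_id]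
  obtain ⟨h, hh, -⟩ := hD.2 _ υA ((isHomFamily_toBc f _).2 (isHomFamily_comp hA.1 _))
  have hgh : g ≫ h = 𝟙 D := (hD.2 D υ' hD.1).unique (by
    show (Red.bc f H ◁ (g ≫ h)) ≫ υ' = υ'
    rw [MonoidalCategory.whiskerLeft_comp, Category.assoc, show (Red.bc f H ◁ h) ≫ υ' = υA from hh, hnat, hgυ])
    (by rw [MonoidalCategory.whiskerLeft_id, Category.id_comp])
  have hhg : h ≫ g = 𝟙 _ := (theta_bijective f).injective <| by
    refine (hA.2 _ _ (isHomFamily_comp hA.1 (theta f (𝟙 (Red.bc f A))))).unique ?_ rfl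
    refine (toBc_bijective f).injective ?_
    show toBc f ((H ◁ theta f (h ≫ g)) ≫ υ) = υA
    rw [theta_comp, MonoidalCategory.whiskerLeft_comp, Category.assoc, toBc_natural, hgυ]
    exact hh
  haveI : IsMonHom g := by
    have hmulg : ∀ {X : Over U} (x y : X ⟶ D), (x * y) ≫ g = (x ≫ g) * (y ≫ g) := fun {X} x y => by
      refine (theta_bijective f).injective ?_
      rw [theta_mul]
      refine (hA.2 _ _ (isHomFamily_comp hA.1 (theta f ((x * y) ≫ g)))).unique rfl ?_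
      refine (toBc_bijective f).injective ?_
      have key : ∀ z : X ⟶ D, toBc f ((H ◁ theta f (z ≫ g)) ≫ υ) = (Red.bc f H ◁ z) ≫ υ' := fun z => by
        rw [theta_comp, MonoidalCategory.whiskerLeft_comp, Category.assoc, toBc_natural, hgυ]
      beta_reduce
      rw [hmul, toBc_mul, key, key, key, hmul']
    refine ⟨?_, ?_⟩
    · have h1 := hmulg (1 : 𝟙_ (Over U) ⟶ D) 1
      rw [_root_.mul_one] at h1
      have h2 : (1 : 𝟙_ (Over U) ⟶ D) ≫ g = 1 := mul_eq_left.mp h1.symm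
      rwa [Hom.one_def, Hom.one_def, toUnit_unit, Category.id_comp, Category.id_comp] at h2
    · have h1 := hmulg (fst D D) (snd D D)
      rw [Hom.mul_def, lift_fst_snd, Category.id_comp] at h1
      rw [h1, Hom.mul_def]
      congr 1
  haveI : IsIso g := ⟨h, hgh, hhg⟩
  exact ⟨(Grp.mkIso (asIso g)).symm⟩

/-- The characters of a group which is fpqc locally constant. -/
theorem exists_charScheme_fpqc (R : Over S) [GrpObj R]
    (hR : TwC.Locally S TwC.Topology.fpqc (fun S' f => ∃ (M : Type) (_ : Group M) (e : Red.bc f R ≅ TwC.const S' M),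
      TwC.IsConstGrp M (Red.bc f R) e)) :
    ∃ (D : Over S) (_ : GrpObj D) (υ : R ⊗ D ⟶ Red.Gm S), AutFam.RepresentsHom R (Red.Gm S) D υ ∧
      (∀ (X : Over S) (r : X ⟶ R) (a b : X ⟶ D), lift r (a * b) ≫ υ = (lift r a ≫ υ) * (lift r b ≫ υ)) ∧
      TwC.Locally S TwC.Topology.fpqc (fun S' f => ∃ (M : Type) (_ : AddCommGroup M),
        Nonempty (Grp.mk (Red.bc f D) ≅ Grp.mk (Red.DS S' M))) := by
  obtain ⟨S', f', hflat, hsurj, hqc, hloc⟩ := hR
  choose U hsU hU using hloc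
  choose M iM e he using hU
  letI := iM
  let f : ∀ s : S', (U s : Scheme.{u}) ⟶ S := fun s => (U s).ι ≫ f'
  have e' : ∀ s, Grp.mk (Red.bc (f s) (Red.Gm S)) ≅ Grp.mk (Red.DS (U s : Scheme.{u}) ℤ) :=
    fun s => (GrpSchLib.MultTypeBC.bc_DS (f s) ℤ).some
  choose υ₀ hυ₀ hmul₀ using fun s => exists_representsHom_const (Red.bc (f s) R) (M s) (e s) (he s)
  let Ds : ∀ s, Over (U s : Scheme.{u}) := fun s => Red.DS (U s) (Additive (Abelianization (M s)))
  let υ₁ : ∀ s, Red.bc (f s) R ⊗ Ds s ⟶ Red.bc (f s) (Red.Gm S) := fun s => υ₀ s ≫ (e' s).inv.hom.hom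
  have hυ₁ : ∀ s, AutFam.RepresentsHom (Red.bc (f s) R) (Red.bc (f s) (Red.Gm S)) (Ds s) (υ₁ s) := fun s => by
    have h := representsHom_of_iso (Iso.refl (Grp.mk (Red.bc (f s) R))) (e' s) (hυ₀ s)
    simpa using h
  obtain ⟨w, hw, -, huniv⟩ := exists_univ f Ds υ₁ hυ₁
  let p : (∐ fun s => (U s : Scheme.{u})) ⟶ S' := Sigma.desc fun s => (U s).ι
  haveI : Flat p := IsZariskiLocalAtSource.sigmaDesc (P := @Flat) inferInstance
  haveI : LocallyOfFinitePresentation p :=
    IsZariskiLocalAtSource.sigmaDesc (P := @LocallyOfFinitePresentation) inferInstance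
  haveI : Surjective p := ⟨fun s => ⟨Sigma.ι (fun s => (U s : Scheme.{u})) s ⟨s, hsU s⟩, by
    rw [← Scheme.Hom.comp_apply]
    exact congrArg (fun k => k (⟨s, hsU s⟩ : U s)) (Sigma.ι_desc (fun s => (U s).ι) s)⟩⟩
  have hcov : FpqcDescLib.IsCovering (coverObj f).hom := by
    rw [show (coverObj f).hom = p ≫ f' from Sigma.hom_ext _ _ fun s => by simp [p, f]]
    exact (FpqcDescLib.isCovering_of_lfp p).comp (FpqcDescLib.isCovering_of_flat f' hqc)
  haveI : IsAffineHom (localMap f Ds).left :=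
    prop_localMap Ds @IsAffineHom fun s => isAffineHom_DS _ _
  obtain ⟨A, υ, hA, -⟩ := exists_representsHom_of_fpqc_affine hcov (localMap f Ds) w hw huniv
  obtain ⟨iA, hmul⟩ := exists_grpObj_of_representsHom hA
  refine ⟨A, iA, υ, hA, fun X r a b => ?_, S', f', hflat, hsurj, hqc, fun s => ⟨U s, hsU s, Additive (Abelianization (M s)), inferInstance, ?_⟩⟩
  · have e0 : ∀ c : X ⟶ A, lift r c ≫ υ = lift r (𝟙 X) ≫ (R ◁ c) ≫ υ := fun c => by
      rw [lift_whiskerLeft_assoc, Category.id_comp]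
    rw [e0, e0, e0, hmul, MonObj.comp_mul]
  · refine exists_bc_iso hA hmul (f s) (hυ₁ s) fun X a b => ?_
    let b' : Red.Gm (U s) ⟶ Red.bc (f s) (Red.Gm S) := (e' s).inv.hom.hom
    haveI : IsMonHom b' := (e' s).inv.hom.isMonHom_hom
    have h : (Red.bc (f s) R ◁ (a * b)) ≫ υ₀ s =
        ((Red.bc (f s) R ◁ a) ≫ υ₀ s) * ((Red.bc (f s) R ◁ b) ≫ υ₀ s) := by
      have h0 := hmul₀ s (Red.bc (f s) R ⊗ X) (fst _ _) (snd _ _ ≫ a) (snd _ _ ≫ b)
      rw [← MonObj.comp_mul] at h0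
      have e1 : ∀ c : X ⟶ Ds s, Red.bc (f s) R ◁ c = lift (fst _ _) (snd _ _ ≫ c) := fun c =>
        CartesianMonoidalCategory.hom_ext _ _ (by simp) (by simp)
      rw [e1, e1, e1]
      exact h0
    show (Red.bc (f s) R ◁ (a * b)) ≫ υ₀ s ≫ b' =
      ((Red.bc (f s) R ◁ a) ≫ υ₀ s ≫ b') * ((Red.bc (f s) R ◁ b) ≫ υ₀ s ≫ b')
    rw [← Category.assoc, h]
    refine (MonObj.mul_comp _ _ b').trans ?_
    simp only [Category.assoc]

end Groth.Agent.HomRepLib
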