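import Groth.Prelude.Def_AutFam
import Groth.Agent.DSPtsLib.Basic

/-!
# Families of homomorphisms of group schemes: base change and transport

A family of homomorphisms parametrised by a scheme over `U` is the same as a family between the base changes to `U`.
-/

universe u

open CategoryTheory CategoryTheory.Limits MonoidalCategory CartesianMonoidalCategory MonObj GrpObj AlgebraicGeometry
open Groth.Agent.DSPtsLib

namespace Groth.Agent.HomRepLib

set_option backward.isDefEq.respectTransparency.types false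

variable {S : Scheme.{u}} {G G' : Over S} [GrpObj G] [GrpObj G']

theorem isHomFamily_comp {T T' : Over S} {φ : G ⊗ T ⟶ G'} (hφ : AutFam.IsHomFamily G G' φ) (a : T' ⟶ T) :
    AutFam.IsHomFamily G G' ((G ◁ a) ≫ φ) := fun X g₁ g₂ t => by
  simp only [lift_whiskerLeft_assoc]
  exact hφ X g₁ g₂ _

/-- Representability of the functor of homomorphisms is invariant under isomorphisms of groups. -/
theorem representsHom_of_iso {H H' : Over S} [GrpObj H] [GrpObj H'] (e : Grp.mk H ≅ Grp.mk G) (e' : Grp.mk H' ≅ Grp.mk G')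
    {A : Over S} {υ : G ⊗ A ⟶ G'} (h : AutFam.RepresentsHom G G' A υ) :
    AutFam.RepresentsHom H H' A ((e.hom.hom.hom ▷ A) ≫ υ ≫ e'.inv.hom.hom) := by
  let a : H ⟶ G := e.hom.hom.hom
  let b : G ⟶ H := e.inv.hom.hom
  let a' : H' ⟶ G' := e'.hom.hom.hom
  let b' : G' ⟶ H' := e'.inv.hom.hom
  haveI : IsMonHom a := e.hom.hom.isMonHom_hom
  haveI : IsMonHom b := e.inv.hom.isMonHom_hom
  haveI : IsMonHom a' := e'.hom.hom.isMonHom_hom
  haveI : IsMonHom b' := e'.inv.hom.isMonHom_hom
  have hab : a ≫ b = 𝟙 H := congrArg (fun k : Grp.mk H ⟶ Grp.mk H => k.hom.hom) e.hom_inv_id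
  have hba : b ≫ a = 𝟙 G := congrArg (fun k : Grp.mk G ⟶ Grp.mk G => k.hom.hom) e.inv_hom_id
  have hab' : a' ≫ b' = 𝟙 H' := congrArg (fun k : Grp.mk H' ⟶ Grp.mk H' => k.hom.hom) e'.hom_inv_id
  have hba' : b' ≫ a' = 𝟙 G' := congrArg (fun k : Grp.mk G' ⟶ Grp.mk G' => k.hom.hom) e'.inv_hom_id
  show AutFam.RepresentsHom H H' A ((a ▷ A) ≫ υ ≫ b')
  refine ⟨fun X g₁ g₂ t => ?_, fun T φ hφ => ?_⟩
  · simp only [lift_whiskerRight_assoc]
    rw [MonObj.mul_comp, ← Category.assoc, h.1, MonObj.mul_comp, Category.assoc, Category.assoc]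
  · have hψ : AutFam.IsHomFamily G G' ((b ▷ T) ≫ φ ≫ a') := fun X g₁ g₂ t => by
      simp only [lift_whiskerRight_assoc]
      rw [MonObj.mul_comp, ← Category.assoc, hφ, MonObj.mul_comp, Category.assoc, Category.assoc]
    obtain ⟨c, hc, hcu⟩ := h.2 T _ hψ
    refine ⟨c, ?_, fun c' hc' => hcu c' ?_⟩
    · beta_reduce at hc ⊢
      rw [whisker_exchange_assoc, reassoc_of% hc, hab', Category.comp_id, ← comp_whiskerRight_assoc, hab,
        id_whiskerRight, Category.id_comp]
    · beta_reduce at hc' ⊢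
      rw [← hc', Category.assoc, Category.assoc, Category.assoc, hba', Category.comp_id, whisker_exchange_assoc,
        ← comp_whiskerRight_assoc, hba, id_whiskerRight, Category.id_comp]

section BC

variable {U : Scheme.{u}} (f : U ⟶ S) {Y : Over U}

/-- A family over a scheme over `U`, as a family between the base changes. -/
noncomputable def toBc (φ : G ⊗ (Over.map f).obj Y ⟶ G') : Red.bc f G ⊗ Y ⟶ Red.bc f G' :=
  (Over.mapPullbackAdj f).homEquiv _ _
    (lift (theta f (fst (Red.bc f G) Y)) ((Over.map f).map (snd (Red.bc f G) Y)) ≫ φ)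

theorem theta_toBc (φ : G ⊗ (Over.map f).obj Y ⟶ G') {X : Over U} (g : X ⟶ Red.bc f G) (t : X ⟶ Y) :
    theta f (lift g t ≫ toBc f φ) = lift (theta f g) ((Over.map f).map t) ≫ φ := by
  rw [theta_comp, toBc, theta, Equiv.symm_apply_apply, comp_lift_assoc]
  congr 2
  · rw [← theta_comp, lift_fst]
  · rw [← Functor.map_comp, lift_snd]

theorem toBc_natural {Y' : Over U} (a : Y' ⟶ Y) (φ : G ⊗ (Over.map f).obj Y ⟶ G') :
    toBc f ((G ◁ (Over.map f).map a) ≫ φ) = (Red.bc f G ◁ a) ≫ toBc f φ := by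
  rw [← Category.id_comp (toBc f ((G ◁ (Over.map f).map a) ≫ φ)),
    ← Category.id_comp ((Red.bc f G ◁ a) ≫ toBc f φ), ← lift_fst_snd, lift_whiskerLeft_assoc]
  refine (theta_bijective f).injective ?_
  rw [theta_toBc, theta_toBc, lift_whiskerLeft_assoc, ← Functor.map_comp]

theorem toBc_bijective : Function.Bijective (toBc f : (G ⊗ (Over.map f).obj Y ⟶ G') → _) := by
  let Z : Over U := Over.mk ((snd G ((Over.map f).obj Y)).left ≫ Y.hom)
  let e : (Over.map f).obj Z ≅ G ⊗ (Over.map f).obj Y := Over.isoMk (Iso.refl _) (by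
    show 𝟙 _ ≫ _ = (_ ≫ Y.hom) ≫ f
    rw [Category.id_comp, Category.assoc]
    exact (Over.w (snd G ((Over.map f).obj Y))).symm)
  let l : Z ⟶ Red.bc f G ⊗ Y :=
    lift ((Over.mapPullbackAdj f).homEquiv _ _ (e.hom ≫ fst _ _)) (Over.homMk (snd G ((Over.map f).obj Y)).left rfl)
  let ρ : (Over.map f).obj (Red.bc f G ⊗ Y) ⟶ G ⊗ (Over.map f).obj Y :=
    lift (theta f (fst (Red.bc f G) Y)) ((Over.map f).map (snd (Red.bc f G) Y))
  let σ : G ⊗ (Over.map f).obj Y ⟶ (Over.map f).obj (Red.bc f G ⊗ Y) := e.inv ≫ (Over.map f).map l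
  have h1 : σ ≫ ρ = 𝟙 _ := by
    refine CartesianMonoidalCategory.hom_ext _ _ ?_ ?_
    · simp only [σ, ρ, Category.assoc, lift_fst, Category.id_comp]
      rw [← theta_comp, lift_fst, theta, Equiv.symm_apply_apply, Iso.inv_hom_id_assoc]
    · simp only [σ, ρ, Category.assoc, lift_snd, Category.id_comp, ← Functor.map_comp, l]
      exact Over.OverMorphism.ext (Category.id_comp _)
  have h2 : ρ ≫ σ = 𝟙 _ := by
    have hm : Mono ((Over.map f).map l) → True := fun _ => trivial
    refine Over.OverMorphism.ext ?_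
    refine pullback.hom_ext (pullback.hom_ext ?_ ?_) ?_
    · have h := congrArg Over.Hom.left (show (Over.map f).map l ≫ theta f (fst (Red.bc f G) Y) = e.hom ≫ fst _ _ by
        rw [← theta_comp, lift_fst, theta, Equiv.symm_apply_apply])
      have h' := congrArg Over.Hom.left (show ρ ≫ fst _ _ = theta f (fst (Red.bc f G) Y) from lift_fst _ _)
      simp only [σ, Over.comp_left, theta_left] at h h' ⊢
      simp only [Category.assoc, e, Over.isoMk_inv_left, Over.isoMk_hom_left, Iso.refl_inv, Iso.refl_hom,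
        Category.id_comp, Over.id_left] at h ⊢
      exact (congrArg (ρ.left ≫ ·) h).trans h'
    · have h := Over.w ((Over.map f).map l ≫ 𝟙 _)
      simp only [σ, Over.comp_left, Category.assoc, e, Over.isoMk_inv_left, Iso.refl_inv, Category.id_comp, Over.id_left]
      have hl := Over.w l
      have hr := congrArg Over.Hom.left (show ρ ≫ snd _ _ = (Over.map f).map (snd (Red.bc f G) Y) from lift_snd _ _)
      have hw := Over.w (snd (Red.bc f G) Y)
      rw [Over.comp_left] at hr
      calc ρ.left ≫ l.left ≫ (Red.bc f G ⊗ Y).hom = ρ.left ≫ (snd G ((Over.map f).obj Y)).left ≫ Y.hom := by rw [hl]; rfl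
        _ = (snd (Red.bc f G) Y).left ≫ Y.hom := by rw [← Category.assoc]; exact congrArg (· ≫ Y.hom) hr
        _ = _ := hw
    · simp only [σ, Over.comp_left, Category.assoc, e, Over.isoMk_inv_left, Iso.refl_inv, Category.id_comp, Over.id_left]
      have hl : l.left ≫ (snd (Red.bc f G) Y).left = (snd G ((Over.map f).obj Y)).left := by
        rw [← Over.comp_left, lift_snd]
        rfl
      have hr := congrArg Over.Hom.left (show ρ ≫ snd _ _ = (Over.map f).map (snd (Red.bc f G) Y) from lift_snd _ _)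
      rw [Over.comp_left] at hr
      exact (congrArg (ρ.left ≫ ·) hl).trans hr
  refine ⟨fun φ ψ h => ?_, fun ψ => ⟨σ ≫ theta f ψ, ?_⟩⟩
  · have h' : ρ ≫ φ = ρ ≫ ψ := ((Over.mapPullbackAdj f).homEquiv _ _).injective h
    rw [← Category.id_comp φ, ← Category.id_comp ψ, ← h1]
    simp only [Category.assoc, h']
  · show (Over.mapPullbackAdj f).homEquiv _ _ (ρ ≫ σ ≫ theta f ψ) = ψ
    rw [← Category.assoc, h2, Category.id_comp]
    exact ((Over.mapPullbackAdj f).homEquiv _ _).apply_symm_apply ψ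

/-- A family over a scheme over `U` is a family of homomorphisms iff the associated one is. -/
theorem isHomFamily_toBc (φ : G ⊗ (Over.map f).obj Y ⟶ G') :
    AutFam.IsHomFamily (Red.bc f G) (Red.bc f G') (toBc f φ) ↔ AutFam.IsHomFamily G G' φ := by
  refine ⟨fun h X g₁ g₂ t => ?_, fun h X g₁ g₂ t => (theta_bijective f).injective ?_⟩
  · let X' : Over U := Over.mk (t.left ≫ Y.hom)
    let e : (Over.map f).obj X' ≅ X := Over.isoMk (Iso.refl _) (by
      show 𝟙 _ ≫ _ = (_ ≫ Y.hom) ≫ f
      rw [Category.id_comp, Category.assoc]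
      exact (Over.w t).symm)
    let t' : X' ⟶ Y := Over.homMk t.left rfl
    have ht : (Over.map f).map t' = e.hom ≫ t := Over.OverMorphism.ext (Category.id_comp _).symm
    obtain ⟨a₁, ha₁⟩ := (theta_bijective f).surjective (e.hom ≫ g₁)
    obtain ⟨a₂, ha₂⟩ := (theta_bijective f).surjective (e.hom ≫ g₂)
    have h0 := congrArg (theta f) (h X' a₁ a₂ t')
    rw [theta_toBc, theta_mul, theta_mul, theta_toBc, theta_toBc, ha₁, ha₂, ht, ← MonObj.comp_mul] at h0
    simp only [← comp_lift, Category.assoc, ← MonObj.comp_mul] at h0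
    exact (cancel_epi e.hom).1 h0
  · rw [theta_toBc, theta_mul, theta_mul, theta_toBc, theta_toBc]
    exact h _ _ _ _

/-- A representation of the homomorphisms between base changes gives a universal family over `U`. -/
theorem local_of_bc {A' : Over U} {υ' : Red.bc f G ⊗ A' ⟶ Red.bc f G'}
    (h : AutFam.RepresentsHom (Red.bc f G) (Red.bc f G') A' υ') {w : G ⊗ (Over.map f).obj A' ⟶ G'}
    (hw : toBc f w = υ') :
    AutFam.IsHomFamily G G' w ∧
      ∀ (T : Over S) (t : T ⟶ Over.mk f) (φ : G ⊗ T ⟶ G'), AutFam.IsHomFamily G G' φ →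
        ∃! a : T ⟶ (Over.map f).obj A',
          a ≫ (Over.homMk A'.hom rfl : (Over.map f).obj A' ⟶ Over.mk f) = t ∧ (G ◁ a) ≫ w = φ := by
  refine ⟨(isHomFamily_toBc f w).1 (hw ▸ h.1), fun T t φ hφ => ?_⟩
  let Y : Over U := Over.mk t.left
  let e : (Over.map f).obj Y ≅ T := Over.isoMk (Iso.refl _) (by
    show 𝟙 _ ≫ _ = t.left ≫ f
    rw [Category.id_comp]
    exact (Over.w t).symm)
  obtain ⟨a', ha', hau⟩ := h.2 Y _ ((isHomFamily_toBc f _).2 (isHomFamily_comp hφ e.hom))
  refine ⟨e.inv ≫ (Over.map f).map a', ⟨Over.OverMorphism.ext ?_, ?_⟩, fun a ⟨ha1, ha2⟩ => ?_⟩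
  · show (𝟙 _ ≫ a'.left) ≫ A'.hom = t.left
    rw [Category.id_comp]
    exact Over.w a'
  · rw [← hw, ← toBc_natural] at ha'
    have h1 := (toBc_bijective f).injective ha'
    rw [MonoidalCategory.whiskerLeft_comp, Category.assoc, h1, ← Category.assoc, ← MonoidalCategory.whiskerLeft_comp,
      Iso.inv_hom_id, MonoidalCategory.whiskerLeft_id, Category.id_comp]
  · let a'' : Y ⟶ A' := Over.homMk a.left (congrArg Over.Hom.left ha1)
    have e1 : (Over.map f).map a'' = e.hom ≫ a := Over.OverMorphism.ext (Category.id_comp _).symm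
    have : a'' = a' := by
      refine hau a'' ?_
      dsimp only
      rw [← hw, ← toBc_natural, e1, MonoidalCategory.whiskerLeft_comp, Category.assoc, ha2]
    rw [← this, e1, Iso.inv_hom_id_assoc]

end BC

end Groth.Agent.HomRepLib
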