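import Groth.Agent.HomRepLib.Fam
import Groth.Agent.AlgSpDec.FppfDescent
import Groth.Agent.EtFound.Descent

/-!
# The sheaf of families of homomorphisms and descent of its representability

If the functor of homomorphisms is representable over an fppf covering by a scheme which is separated and locally
quasi-finite (or affine) over the covering, it is representable.
-/

universe u

open CategoryTheory CategoryTheory.Limits MonoidalCategory CartesianMonoidalCategory MonObj GrpObj AlgebraicGeometry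
open Opposite AlgSp Groth.Agent.AlgSpLib Groth.Agent.AlgSpDec

namespace Groth.Agent.HomRepLib

set_option backward.isDefEq.respectTransparency false
set_option backward.isDefEq.respectTransparency.types false

variable {S : Scheme.{u}} (G G' : Over S) [GrpObj G] [GrpObj G']

/-- The functor of families of homomorphisms. -/
noncomputable def famFunctor : (Over S)ᵒᵖ ⥤ Type u where
  obj T := {φ : G ⊗ T.unop ⟶ G' // AutFam.IsHomFamily G G' φ}
  map {T T'} a := ↾fun φ => ⟨(G ◁ a.unop) ≫ φ.1, isHomFamily_comp φ.2 a.unop⟩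
  map_id T := by
    refine ConcreteCategory.hom_ext _ _ fun φ => Subtype.ext ?_
    exact (show (G ◁ 𝟙 T.unop) ≫ φ.1 = φ.1 by rw [MonoidalCategory.whiskerLeft_id, Category.id_comp])
  map_comp a b := by
    refine ConcreteCategory.hom_ext _ _ fun φ => Subtype.ext ?_
    exact (show (G ◁ (b.unop ≫ a.unop)) ≫ φ.1 = (G ◁ b.unop) ≫ (G ◁ a.unop) ≫ φ.1 by
      rw [MonoidalCategory.whiskerLeft_comp, Category.assoc])

theorem isSheaf_famFunctor : Presieve.IsSheaf (AlgSp.J S) (famFunctor G G') := by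
  intro T R hR x hx
  have hyX : ∀ (Z : Over S), Presieve.IsSheaf (AlgSp.J S) (yoneda.obj Z) := fun Z =>
    GrothendieckTopology.Subcanonical.isSheaf_of_isRepresentable _
  let R' := R.pullback (snd G T)
  let y : Presieve.FamilyOfElements (yoneda.obj G') (R' : Presieve (G ⊗ T)) := fun W h hh =>
    lift (h ≫ fst G T) (𝟙 W) ≫ (x (h ≫ snd G T) hh).1
  have hx' : ∀ {W W' : Over S} (r : W ⟶ T) (hr : R r) (g : W' ⟶ W),
      (x (g ≫ r) (R.downward_closed hr g)).1 = (G ◁ g) ≫ (x r hr).1 := fun r hr g =>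
    congrArg Subtype.val ((Presieve.compatible_iff_sieveCompatible x).mp hx r g hr)
  have hy : y.Compatible := by
    rw [Presieve.compatible_iff_sieveCompatible]
    intro W W' h g hh
    show lift ((g ≫ h) ≫ fst G T) (𝟙 W') ≫ (x ((g ≫ h) ≫ snd G T) _).1 =
      g ≫ lift (h ≫ fst G T) (𝟙 W) ≫ (x (h ≫ snd G T) hh).1
    have h2 : (x ((g ≫ h) ≫ snd G T) (by rw [Category.assoc]; exact R.downward_closed hh g)).1 =
        (x (g ≫ h ≫ snd G T) (R.downward_closed hh g)).1 := by
      congr 2 <;> exact Category.assoc _ _ _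
    rw [h2, hx' _ hh g, lift_whiskerLeft_assoc, comp_lift_assoc, Category.id_comp, Category.comp_id, Category.assoc]
  obtain ⟨φ, hφ, -⟩ := hyX G' _ ((AlgSp.J S).pullback_stable (snd G T) hR) y hy
  have hres : ∀ {W : Over S} (r : W ⟶ T) (hr : R r), (G ◁ r) ≫ φ = (x r hr).1 := by
    intro W r hr
    have hr' : R ((G ◁ r) ≫ snd G T) := by rw [whiskerLeft_snd]; exact R.downward_closed hr _
    refine (hφ (G ◁ r) hr').trans ?_
    show lift ((G ◁ r) ≫ fst G T) (𝟙 _) ≫ (x ((G ◁ r) ≫ snd G T) hr').1 = _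
    have h2 : (x ((G ◁ r) ≫ snd G T) hr').1 = (x (snd G W ≫ r) (R.downward_closed hr _)).1 := by
      congr 2
      exact whiskerLeft_snd _ _
    rw [h2, hx' r hr, lift_whiskerLeft_assoc, Category.id_comp, whiskerLeft_fst, lift_fst_snd, Category.id_comp]
  have hsep : ∀ (F F' : G ⊗ T ⟶ G'), (∀ {W : Over S} (r : W ⟶ T), R r → (G ◁ r) ≫ F = (G ◁ r) ≫ F') → F = F' := by
    intro F F' hFG
    refine (hyX G' _ ((AlgSp.J S).pullback_stable (snd G T) hR)).isSeparatedFor.ext fun W h hh => ?_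
    show h ≫ F = h ≫ F'
    have e : h = lift (h ≫ fst G T) (𝟙 W) ≫ (G ◁ (h ≫ snd G T)) := by
      rw [lift_whiskerLeft, Category.id_comp, lift_comp_fst_snd]
    rw [e, Category.assoc, Category.assoc, hFG _ hh]
  have hfam : AutFam.IsHomFamily G G' φ := fun X g₁ g₂ t => by
    refine (hyX G' _ ((AlgSp.J S).pullback_stable t hR)).isSeparatedFor.ext fun W h hh => ?_
    show h ≫ _ = h ≫ _
    have e : ∀ g : X ⟶ G, h ≫ lift g t ≫ φ = lift (h ≫ g) (𝟙 W) ≫ (x (h ≫ t) hh).1 := fun g => by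
      rw [← hres _ hh, lift_whiskerLeft_assoc, Category.id_comp, comp_lift_assoc]
    rw [e, MonObj.comp_mul, MonObj.comp_mul, e, e]
    exact (x (h ≫ t) hh).2 W _ _ _
  refine ⟨⟨φ, hfam⟩, fun W r hr => Subtype.ext (hres r hr), fun ψ hψ => Subtype.ext (hsep _ _ fun {W} r hr => ?_)⟩
  rw [hres r hr]
  exact congrArg Subtype.val (hψ r hr)

/-- The fppf sheaf of families of homomorphisms. -/
noncomputable def famSheaf : Sp S :=
  ⟨famFunctor G G' ⋙ uliftFunctor.{u + 1},
    (isSheaf_iff_isSheaf_of_type _ _).mpr (Presieve.isSheaf_comp_uliftFunctor _ (isSheaf_famFunctor G G'))⟩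

variable {G G'}

/-- An isomorphism with a representable sheaf gives a representation of the functor of homomorphisms. -/
theorem representsHom_of_iso_sheaf {A : Over S} (e : (yon S).obj A ≅ famSheaf G G') :
    ∃ υ : G ⊗ A ⟶ G', AutFam.RepresentsHom G G' A υ := by
  let eP : yoneda.obj A ≅ famFunctor G G' :=
    ((Functor.whiskeringRight _ _ _).obj uliftFunctor.{u + 1}).preimageIso
      ((sheafToPresheaf (AlgSp.J S) (Type (u + 1))).mapIso e)
  let r := Functor.representableByEquiv.symm eP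
  have hr : ∀ (T : Over S) (a : T ⟶ A), (r.homEquiv a).1 = (G ◁ a) ≫ (r.homEquiv (𝟙 A)).1 := fun T a => by
    conv_lhs => rw [← Category.comp_id a, r.homEquiv_comp a (𝟙 A)]
    rfl
  refine ⟨(r.homEquiv (𝟙 A)).1, (r.homEquiv (𝟙 A)).2, fun T φ hφ => ⟨r.homEquiv.symm ⟨φ, hφ⟩, ?_, fun a ha => ?_⟩⟩
  · show (G ◁ _) ≫ _ = φ
    rw [← hr, Equiv.apply_symm_apply]
  · apply r.homEquiv.injective
    rw [Equiv.apply_symm_apply]
    exact Subtype.ext ((hr T a).trans ha)

/-- The cartesian square of sheaves given by a universal family over `U`. -/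
theorem exists_square {U W : Over S} (i : W ⟶ U) (w : G ⊗ W ⟶ G') (hw : AutFam.IsHomFamily G G' w)
    (huniv : ∀ (T : Over S) (t : T ⟶ U) (φ : G ⊗ T ⟶ G'), AutFam.IsHomFamily G G' φ →
      ∃! a : T ⟶ W, a ≫ i = t ∧ (G ◁ a) ≫ w = φ) :
    ∃ (k : (yon S).obj W ⟶ famSheaf G G') (q : famSheaf G G' ⟶ (yon S).obj (Over.mk (𝟙 S)))
      (π : U ⟶ Over.mk (𝟙 S)), IsPullback k ((yon S).map i) q ((yon S).map π) := by
  let kP : yoneda.obj W ⟶ famFunctor G G' :=
    { app := fun T => ↾fun a => ⟨(G ◁ a) ≫ w, isHomFamily_comp hw a⟩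
      naturality := fun T T' b => by ext a; exact Subtype.ext (by simp [famFunctor]) }
  let qP : famFunctor G G' ⟶ yoneda.obj (Over.mk (𝟙 S)) :=
    { app := fun T => ↾fun _ => CategoryTheory.Over.mkIdTerminal.from _
      naturality := fun T T' b => by ext a; exact CategoryTheory.Over.mkIdTerminal.hom_ext _ _ }
  let π : U ⟶ Over.mk (𝟙 S) := CategoryTheory.Over.mkIdTerminal.from _
  have sq : IsPullback kP (yoneda.map i) qP (yoneda.map π) := by
    refine IsPullback.of_forall_isPullback_app fun T => (Types.isPullback_iff _ _ _ _).2 ⟨?_, ?_, ?_⟩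
    · ext a; exact CategoryTheory.Over.mkIdTerminal.hom_ext _ _
    · intro a b ⟨h1, h2⟩
      refine (huniv T.unop (a ≫ i) _ (isHomFamily_comp hw a)).unique ⟨rfl, rfl⟩ ⟨h2.symm, ?_⟩
      exact (congrArg Subtype.val h1).symm
    · intro φ t _
      obtain ⟨a, ⟨h1, h2⟩, -⟩ := huniv T.unop t φ.1 φ.2
      exact ⟨a, Subtype.ext h2, h1⟩
  refine ⟨ObjectProperty.homMk (Functor.whiskerRight kP uliftFunctor.{u + 1}),
    ObjectProperty.homMk (Functor.whiskerRight qP uliftFunctor.{u + 1}), π, ?_⟩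
  refine IsPullback.of_map_of_faithful (sheafToPresheaf (AlgSp.J S) (Type (u + 1))) ?_
  exact sq.map ((Functor.whiskeringRight _ _ _).obj uliftFunctor.{u + 1})

/-- Descent of representability when the local scheme is separated and locally quasi-finite over the covering. -/
theorem exists_representsHom_of_lqf {U W : Over S} [Flat U.hom] [LocallyOfFinitePresentation U.hom] [Surjective U.hom]
    (i : W ⟶ U) [LocallyOfFiniteType i.left] [IsSeparated i.left] [LocallyQuasiFinite i.left]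
    (w : G ⊗ W ⟶ G') (hw : AutFam.IsHomFamily G G' w)
    (huniv : ∀ (T : Over S) (t : T ⟶ U) (φ : G ⊗ T ⟶ G'), AutFam.IsHomFamily G G' φ →
      ∃! a : T ⟶ W, a ≫ i = t ∧ (G ◁ a) ≫ w = φ) :
    ∃ (A : Over S) (υ : G ⊗ A ⟶ G'), AutFam.RepresentsHom G G' A υ := by
  obtain ⟨k, q, π, sq⟩ := exists_square i w hw huniv
  have hπ : π.left = U.hom := by simpa using Over.w π
  haveI : Flat π.left := hπ ▸ inferInstance
  haveI : LocallyOfFinitePresentation π.left := hπ ▸ inferInstance
  haveI : Surjective π.left := hπ ▸ inferInstance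
  obtain ⟨Q, ⟨e⟩⟩ := AlgSpDec.Fppf.exists_rep_of_lqf_cover π sq
  exact ⟨Q, representsHom_of_iso_sheaf e⟩

/-- Descent of representability when the local scheme is affine over the covering. -/
theorem exists_representsHom_of_affine {U W : Over S} [Flat U.hom] [LocallyOfFinitePresentation U.hom] [Surjective U.hom]
    (i : W ⟶ U) [IsAffineHom i.left]
    (w : G ⊗ W ⟶ G') (hw : AutFam.IsHomFamily G G' w)
    (huniv : ∀ (T : Over S) (t : T ⟶ U) (φ : G ⊗ T ⟶ G'), AutFam.IsHomFamily G G' φ →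
      ∃! a : T ⟶ W, a ≫ i = t ∧ (G ◁ a) ≫ w = φ) :
    ∃ (A : Over S) (υ : G ⊗ A ⟶ G'), AutFam.RepresentsHom G G' A υ ∧ IsAffineHom A.hom := by
  obtain ⟨k, q, π, sq⟩ := exists_square i w hw huniv
  have hπ : π.left = U.hom := by simpa using Over.w π
  haveI : Flat π.left := hπ ▸ inferInstance
  haveI : LocallyOfFinitePresentation π.left := hπ ▸ inferInstance
  haveI : Surjective π.left := hπ ▸ inferInstance
  have hp : RepWith fppf ((yon S).map π) := (repWith_yon_map_iff _ π).2 (fppf_of π.left)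
  have := EtFound.fpqc_isAffineHom.{u}
  have h := AlgSpDec.Fppf.repWith_of_fppf_cover (P := @IsAffineHom) le_rfl hp sq
    ((repWith_yon_map_iff _ i).2 ‹IsAffineHom i.left›)
  have sq' := h.rep.isPullback (𝟙 ((yon S).obj (Over.mk (𝟙 S))))
  have hQ : IsAffineHom (h.rep.snd (𝟙 ((yon S).obj (Over.mk (𝟙 S))))).left := h.property_snd _
  haveI : IsIso (h.rep.fst (𝟙 ((yon S).obj (Over.mk (𝟙 S))))) := sq'.isIso_fst_of_isIso
  obtain ⟨υ, hυ⟩ := representsHom_of_iso_sheaf (asIso (h.rep.fst (𝟙 ((yon S).obj (Over.mk (𝟙 S))))))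
  refine ⟨_, υ, hυ, ?_⟩
  rw [← CategoryTheory.Over.w (h.rep.snd (𝟙 ((yon S).obj (Over.mk (𝟙 S)))))]
  exact inferInstanceAs (IsAffineHom (_ ≫ 𝟙 S))

/-- The local scheme is the base change of the representing scheme. -/
theorem exists_cartesian {U W A : Over S} (i : W ⟶ U) (w : G ⊗ W ⟶ G') (hw : AutFam.IsHomFamily G G' w)
    (huniv : ∀ (T : Over S) (t : T ⟶ U) (φ : G ⊗ T ⟶ G'), AutFam.IsHomFamily G G' φ →
      ∃! a : T ⟶ W, a ≫ i = t ∧ (G ◁ a) ≫ w = φ)
    {υ : G ⊗ A ⟶ G'} (hA : AutFam.RepresentsHom G G' A υ) :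
    ∃ a : W ⟶ A, (G ◁ a) ≫ υ = w ∧ IsPullback a.left i.left A.hom U.hom := by
  obtain ⟨a, ha, -⟩ := hA.2 W w hw
  beta_reduce at ha
  refine ⟨a, ha, ?_⟩
  have hcomm : a.left ≫ A.hom = i.left ≫ U.hom := (Over.w a).trans (Over.w i).symm
  let P : Over S := Over.mk (pullback.fst A.hom U.hom ≫ A.hom)
  let p₁ : P ⟶ A := Over.homMk (pullback.fst A.hom U.hom) rfl
  let p₂ : P ⟶ U := Over.homMk (pullback.snd A.hom U.hom) pullback.condition.symm
  obtain ⟨b, ⟨hb1, hb2⟩, -⟩ := huniv P p₂ _ (isHomFamily_comp hA.1 p₁)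
  have hba : b ≫ a = p₁ := (hA.2 P _ (isHomFamily_comp hA.1 p₁)).unique
    (by rw [MonoidalCategory.whiskerLeft_comp, Category.assoc, ha, hb2]) rfl
  let l : W ⟶ P := Over.homMk (pullback.lift a.left i.left hcomm) (by
    show _ ≫ pullback.fst A.hom U.hom ≫ A.hom = _
    rw [pullback.lift_fst_assoc]
    exact Over.w a)
  have hl1 : l ≫ p₁ = a := Over.OverMorphism.ext (pullback.lift_fst _ _ _)
  have hl2 : l ≫ p₂ = i := Over.OverMorphism.ext (pullback.lift_snd _ _ _)
  have hlb : l ≫ b = 𝟙 W := (huniv W i w hw).unique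
    ⟨by rw [Category.assoc, hb1, hl2], by
      rw [MonoidalCategory.whiskerLeft_comp, Category.assoc, hb2, ← MonoidalCategory.whiskerLeft_comp_assoc, hl1, ha]⟩
    ⟨Category.id_comp _, by simp⟩
  have hbl : b ≫ l = 𝟙 P := Over.OverMorphism.ext (pullback.hom_ext
    (by
      have := congrArg Over.Hom.left (show (b ≫ l) ≫ p₁ = p₁ by rw [Category.assoc, hl1, hba])
      simpa [p₁] using this)
    (by
      have := congrArg Over.Hom.left (show (b ≫ l) ≫ p₂ = p₂ by rw [Category.assoc, hl2, hb1])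
      simpa [p₂] using this))
  refine IsPullback.of_iso_pullback ⟨hcomm⟩
    ⟨l.left, b.left, congrArg Over.Hom.left hlb, congrArg Over.Hom.left hbl⟩ ?_ ?_
  · exact congrArg Over.Hom.left hl1
  · exact congrArg Over.Hom.left hl2

end Groth.Agent.HomRepLib
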